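import Groth.Agent.H02CA.PC.Cone
import Mathlib.Algebra.Homology.HomotopyCategory.ShortExact

/-!
# Enlarging the source of a map by a complex mapping to its cone
-/

set_option autoImplicit false
set_option linter.style.haveILetI false

universe w v u

open CategoryTheory CategoryTheory.Category CategoryTheory.Limits CochainComplex HomComplex Pretriangulated

namespace Groth.Agent.H02CA.PC

variable {C : Type u} [Category.{v} C] [Abelian C]
variable {E F L : CochainComplex C ℤ} {u : E ⟶ F} (g : L ⟶ mappingCone u)

/-- The component in the source. -/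
noncomputable def attA (i j : ℤ) (hij : i + 1 = j) : L.X i ⟶ E.X j :=
  g.f i ≫ (mappingCone.fst u).1.v i j hij

/-- The component in the target. -/
noncomputable def attB (i : ℤ) : L.X i ⟶ F.X i :=
  g.f i ≫ (mappingCone.snd u).v i i (add_zero i)

lemma attA_d (i : ℤ) :
    L.d i (i + 1) ≫ attA g (i + 1) (i + 1 + 1) rfl = -attA g i (i + 1) rfl ≫ E.d (i + 1) (i + 1 + 1) := by
  rw [attA, attA, ← g.comm_assoc, mappingCone.d_fst_v _ i (i + 1) (i + 1 + 1) rfl rfl]
  simp

lemma attB_d (i : ℤ) :
    L.d i (i + 1) ≫ attB g (i + 1) =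
      attA g i (i + 1) rfl ≫ u.f (i + 1) + attB g i ≫ F.d i (i + 1) := by
  rw [attB, attA, attB, ← g.comm_assoc, mappingCone.d_snd_v _ i (i + 1) rfl]
  simp

/-- The enlarged source. -/
noncomputable def att : CochainComplex C ℤ :=
  CochainComplex.of (fun i => E.X i ⊞ L.X i)
    (fun i => biprod.desc (E.d i (i + 1) ≫ biprod.inl)
      (biprod.lift (-attA g i (i + 1) rfl) (L.d i (i + 1))))
    (fun i => by
      apply biprod.hom_ext' <;> apply biprod.hom_ext <;> simp [attA_d])

lemma att_d (i : ℤ) :
    (att g).d i (i + 1) = biprod.desc (E.d i (i + 1) ≫ biprod.inl)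
      (biprod.lift (-attA g i (i + 1) rfl) (L.d i (i + 1))) := by
  simp [att]

/-- The inclusion of the old source. -/
noncomputable def attV : E ⟶ att g where
  f i := biprod.inl
  comm' i j hij := by
    obtain rfl : i + 1 = j := hij
    rw [att_d]
    exact biprod.inl_desc _ _

/-- The extended map. -/
noncomputable def attU : att g ⟶ F where
  f i := biprod.desc (u.f i) (attB g i)
  comm' i j hij := by
    obtain rfl : i + 1 = j := hij
    rw [att_d]
    dsimp [att]
    apply biprod.hom_ext' <;> simp [attB_d]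

/-- The projection to the new part. -/
noncomputable def attP : att g ⟶ L where
  f i := biprod.snd
  comm' i j hij := by
    obtain rfl : i + 1 = j := hij
    rw [att_d]
    dsimp [att]
    apply biprod.hom_ext' <;> simp

@[reassoc]
lemma attV_attU : attV g ≫ attU g = u := by
  ext i
  exact biprod.inl_desc _ _

lemma attV_attP : attV g ≫ attP g = 0 := by
  ext i
  exact biprod.inl_snd

instance (i : ℤ) : Mono ((attV g).f i) := inferInstanceAs (Mono (biprod.inl : E.X i ⟶ E.X i ⊞ L.X i))

lemma isIso_attV_f (i : ℤ) (h : IsZero (L.X i)) : IsIso ((attV g).f i) :=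
  ⟨biprod.fst, biprod.inl_fst, by
    apply biprod.hom_ext' <;> dsimp [attV, att]
    · simp
    · exact h.eq_of_src _ _⟩

/-- The cokernel of the inclusion. -/
noncomputable def attCokerIso (i : ℤ) : cokernel ((attV g).f i) ≅ L.X i :=
  cokernel.mapIso _ (biprod.inl : E.X i ⟶ E.X i ⊞ L.X i) (Iso.refl _) (Iso.refl _) (by dsimp [attV, att]; simp) ≪≫
    cokernelBiprodInlIso

/-- The short complex of complexes. -/
noncomputable def attSc : ShortComplex (CochainComplex C ℤ) :=
  ShortComplex.mk (attV g) (attP g) (attV_attP g)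

lemma attSc_shortExact : (attSc g).ShortExact :=
  HomologicalComplex.shortExact_of_degreewise_shortExact _ fun i =>
    (ShortComplex.Splitting.ofHasBinaryBiproduct (E.X i) (L.X i)).shortExact

/-- The inclusion of the new part, in each degree. -/
noncomputable def attI (i : ℤ) : L.X i ⟶ (att g).X i := biprod.inr

lemma attI_d (i : ℤ) :
    attI g i ≫ (att g).d i (i + 1) =
      (-attA g i (i + 1) rfl) ≫ (attV g).f (i + 1) + L.d i (i + 1) ≫ attI g (i + 1) := by
  rw [att_d]
  refine (biprod.inr_desc _ _).trans ?_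
  exact biprod.lift_eq (f := -attA g i (i + 1) rfl) (g := L.d i (i + 1))

@[reassoc]
lemma attI_P (i : ℤ) : attI g i ≫ (attP g).f i = 𝟙 _ := biprod.inr_snd

@[reassoc]
lemma attI_U (i : ℤ) : attI g i ≫ (attU g).f i = attB g i := biprod.inr_desc _ _

/-- The new part maps to the cone of the inclusion. -/
noncomputable def attG : L ⟶ mappingCone (attV g) :=
  mappingCone.lift (attV g) (Cocycle.mk (Cochain.mk fun i j hij => attA g i j hij) 2 rfl (by
      ext p q hpq
      obtain rfl : q = p + 1 + 1 := by omega
      rw [δ_v 1 2 rfl _ p (p + 1 + 1) hpq (p + 1) (p + 1) (by omega) rfl]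
      simp [attA_d, Int.negOnePow_succ, Int.negOnePow_zero,
        show (2 : ℤ).negOnePow = 1 from Int.negOnePow_even 2 ⟨1, rfl⟩]))
    (Cochain.ofHoms fun i => attI g i) (by
      ext p q hpq
      obtain rfl : q = p + 1 := by omega
      rw [Cochain.add_v, δ_v 0 1 rfl _ p (p + 1) rfl p (p + 1) (by omega) rfl]
      simp only [Cochain.comp_zero_cochain_v, Cochain.ofHom_v, Cochain.ofHoms_v, Cocycle.mk_coe,
        Cochain.mk_v, Cochain.zero_v]
      rw [attI_d]
      simp)

/-- The comparison of the cone of the inclusion with the new part. -/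
noncomputable def attD : mappingCone (attV g) ⟶ L :=
  mappingCone.desc (attV g) 0 (attP g) (by simp [attV_attP g])

lemma attG_desc : attG g ≫ attD g = 𝟙 L := by
  ext i
  rw [HomologicalComplex.comp_f, attD, attG,
    mappingCone.lift_desc_f _ _ _ _ _ _ _ i (i + 1) rfl]
  simp [attI_P]

lemma attG_map :
    attG g ≫ mappingCone.map (attV g) (attV g ≫ attU g) (𝟙 E) (attU g) (by rw [id_comp]) ≫
      mappingCone.map (attV g ≫ attU g) u (𝟙 E) (𝟙 F) (by rw [id_comp, comp_id, attV_attU]) = g := by
  ext i
  apply mappingCone.ext_to _ i (i + 1) rfl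
  · simp [attG, mappingCone.map, attA, mappingCone.desc_f _ _ _ _ i (i + 1) rfl]
  · simp [attG, mappingCone.map, attI_U, attB, mappingCone.desc_f _ _ _ _ i (i + 1) rfl]

variable [HasDerivedCategory.{w} C]

lemma isIso_Q_attG : IsIso (DerivedCategory.Q.map (attG g)) := by
  let d : mappingCone (attV g) ⟶ L := attD g
  haveI : IsIso (DerivedCategory.Q.map d) := by
    rw [DerivedCategory.isIso_Q_map_iff_quasiIso]
    exact mappingCone.quasiIso_descShortComplex (attSc_shortExact g)
  have h : DerivedCategory.Q.map (attG g) ≫ DerivedCategory.Q.map d = 𝟙 _ := by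
    rw [← Functor.map_comp, show attG g ≫ d = 𝟙 L from attG_desc g]
    exact DerivedCategory.Q.map_id L
  rw [IsIso.eq_inv_of_inv_hom_id h]
  infer_instance

/-- The extended map is an isomorphism in degrees where the attached complex covers the cone. -/
theorem dge_attU {n : ℤ} (hg : DGe n (DerivedCategory.Q.map g)) :
    DGe n (DerivedCategory.Q.map (attU g)) := by
  haveI := isIso_Q_attG g
  let e : mappingCone (attV g ≫ attU g) ⟶ mappingCone u :=
    mappingCone.map (attV g ≫ attU g) u (𝟙 E) (𝟙 F) (by rw [id_comp, comp_id, attV_attU])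
  let e' : mappingCone u ⟶ mappingCone (attV g ≫ attU g) :=
    mappingCone.map u (attV g ≫ attU g) (𝟙 E) (𝟙 F) (by rw [id_comp, comp_id, attV_attU])
  haveI : IsIso e := ⟨e', by rw [← mappingCone.map_comp]; simp [mappingCone.map_id],
    by rw [← mappingCone.map_comp]; simp [mappingCone.map_id]⟩
  have h : DGe n (DerivedCategory.Q.map (attG g) ≫ DerivedCategory.Q.map
      (mappingCone.map (attV g) (attV g ≫ attU g) (𝟙 E) (attU g) (by rw [id_comp])) ≫
        DerivedCategory.Q.map e) := by
    rw [← Functor.map_comp, ← Functor.map_comp, attG_map]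
    exact hg
  rw [dge_iso_comp_iff, dge_comp_iso_iff] at h
  rw [dge_Q_iff]
  intro i hi
  rw [← isZero_H_iff]
  exact (dge_iff _ (compTriangle_distinguished (attV g) (attU g)) n).1 h i hi

end Groth.Agent.H02CA.PC
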