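import Groth.Agent.H02CA.PC.Gen
import Mathlib.CategoryTheory.Triangulated.Functor

/-!
# Triangulated functors with bounded amplitude
-/

set_option autoImplicit false
set_option linter.style.haveILetI false

universe w' v' u' w v u

open CategoryTheory CategoryTheory.Category CategoryTheory.Limits CochainComplex HomologicalComplex Pretriangulated

namespace Groth.Agent.H02CA.PC

variable {C : Type u} [Category.{v} C] [Abelian C] [HasDerivedCategory.{w} C] {P : ObjectProperty C}

/-- Cohomology of a shift. -/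
noncomputable def hShift (n i j : ℤ) (h : n + i = j) (X : DerivedCategory C) :
    (H C i).obj (X⟦n⟧) ≅ (H C j).obj X :=
  ((DerivedCategory.homologyFunctor C 0).shiftIso n i j h).app X

/-- Dévissage of a bounded complex along its terms. -/
theorem termwise_induction [P.IsClosedUnderIsomorphisms] [P.ContainsZero]
    (Φ : DerivedCategory C → Prop) (h₀ : ∀ X, IsZero X → Φ X)
    (hext : ∀ T, T ∈ (distTriang (DerivedCategory C)) → Φ T.obj₁ → Φ T.obj₃ → Φ T.obj₂) (n : ℤ) :
    ∀ (k : ℕ), (∀ (j : ℤ) (X : C), n ≤ j → j < n + k → P X →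
      Φ (DerivedCategory.Q.obj ((HomologicalComplex.single C (ComplexShape.up ℤ) j).obj X))) →
    ∀ (F : CochainComplex C ℤ), (∀ i, i < n ∨ n + k ≤ i → IsZero (F.X i)) → (∀ i, P (F.X i)) →
    Φ (DerivedCategory.Q.obj F) := by
  intro k
  induction k with
  | zero =>
    intro _ F hF _
    refine h₀ _ (DerivedCategory.Q.map_isZero ?_)
    rw [IsZero.iff_id_eq_zero]
    ext i
    exact (hF i (by omega)).eq_of_src _ _
  | succ k ih =>
    intro hs F hF hP
    let j : ℤ := n + k
    let ι : (HomologicalComplex.single C (ComplexShape.up ℤ) j).obj (F.X j) ⟶ F :=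
      HomologicalComplex.mkHomFromSingle (𝟙 _) fun i hi =>
        (hF i (by simp [j] at hi; omega)).eq_of_tgt _ _
    haveI hmono : ∀ i, Mono (ι.f i) := fun i => by
      by_cases h : i = j
      · subst h
        simp only [ι, HomologicalComplex.mkHomFromSingle_f]
        infer_instance
      · exact ⟨fun _ _ _ => (isZero_single_obj_X _ _ _ _ h).eq_of_tgt _ _⟩
    haveI : Mono ι := HomologicalComplex.mono_of_mono_f ι hmono
    let S : ShortComplex (CochainComplex C ℤ) :=
      ShortComplex.mk ι (cokernel.π ι) (cokernel.condition ι)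
    have hS : S.ShortExact :=
      { exact := ShortComplex.exact_of_g_is_cokernel _ (cokernelIsCokernel _) }
    have hX : ∀ i, i ≠ j → Nonempty (S.X₃.X i ≅ F.X i) := fun i hi =>
      ⟨PreservesCokernel.iso (HomologicalComplex.eval C (ComplexShape.up ℤ) i) ι ≪≫
        cokernelIsoOfEq ((isZero_single_obj_X _ j (F.X j) i hi).eq_of_src (ι.f i) 0) ≪≫
        cokernelZeroIsoTarget⟩
    have hXj : IsZero (S.X₃.X j) := by
      haveI : Epi (ι.f j) := by
        simp only [ι, HomologicalComplex.mkHomFromSingle_f]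
        infer_instance
      exact IsZero.of_iso (isZero_cokernel_of_epi (ι.f j))
        (PreservesCokernel.iso (HomologicalComplex.eval C (ComplexShape.up ℤ) j) ι)
    refine hext _ (DerivedCategory.triangleOfSES_distinguished hS) (hs j _ (by omega) (by omega) (hP j))
      (ih (fun l X hl hl' => hs l X hl (by omega)) S.X₃ (fun i hi => ?_) fun i => ?_)
    · by_cases h : i = j
      · subst h
        exact hXj
      · obtain ⟨eX⟩ := hX i h
        exact (hF i (by omega)).of_iso eX
    · by_cases h : i = j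
      · subst h
        exact P.prop_of_isZero hXj
      · obtain ⟨eX⟩ := hX i h
        exact P.prop_of_iso eX.symm (hP i)

variable {C' : Type u'} [Category.{v'} C'] [Abelian C'] [HasDerivedCategory.{w'} C']
variable (u : DerivedCategory C ⥤ DerivedCategory C') [u.CommShift ℤ]

/-- The amplitude bound, translated. -/
lemma vanish_map (b : ℤ)
    (hii : ∀ F : DerivedCategory C, (∀ i : ℤ, 0 < i → IsZero ((H C i).obj F)) →
      ∀ i : ℤ, b < i → IsZero ((H C' i).obj (u.obj F)))
    (n : ℤ) (X : DerivedCategory C) (hX : ∀ i, n < i → IsZero ((H C i).obj X)) (i : ℤ)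
    (hi : n + b < i) : IsZero ((H C' i).obj (u.obj X)) :=
  (hii (X⟦n⟧) (fun j hj => (hX (n + j) (by omega)).of_iso (hShift n j (n + j) rfl X)) (i - n)
    (by omega)).of_iso
      ((hShift n (i - n) i (by omega) (u.obj X)).symm ≪≫ (H C' (i - n)).mapIso ((u.commShiftIso n).app X).symm)

variable [u.IsTriangulated] {P' : ObjectProperty C'} [P.IsClosedUnderIsomorphisms] [P.ContainsZero]
  [P'.IsClosedUnderIsomorphisms] [P'.ContainsZero]

/-- Images of pseudo-coherent objects under a functor of bounded amplitude. -/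
theorem dpc_map (hsum : ∀ X Y : C, P X → P Y → P (X ⨯ Y))
    (hqs : PCoh.IsQuasiStableUnderKernels P) (hql : PCoh.IsQuasiLiftable P)
    (hsum' : ∀ X Y : C', P' X → P' Y → P' (X ⨯ Y))
    (hqs' : PCoh.IsQuasiStableUnderKernels P') (hql' : PCoh.IsQuasiLiftable P') (a b : ℤ)
    (hi : ∀ E : C, P E → DPC P' a (u.obj ((DerivedCategory.singleFunctor C 0).obj E)))
    (hii : ∀ F : DerivedCategory C, (∀ i : ℤ, 0 < i → IsZero ((H C i).obj F)) →
      ∀ i : ℤ, b < i → IsZero ((H C' i).obj (u.obj F)))
    (m n : ℤ) {F : DerivedCategory C} (hF : DPC P m F) (hac : ∀ i, n < i → IsZero ((H C i).obj F)) :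
    DPC P' (max (m + b) (n + a)) (u.obj F) := by
  by_cases hmn : n + 1 ≤ m
  · exact dpc_of_acyclic _ fun i hi => vanish_map u b hii n F hac i (by omega)
  obtain ⟨E, α, hE, hP, hα⟩ := exists_approx hsum hqs hql m (n + 1) (by omega) hF
    fun i hi => hac i (by omega)
  obtain ⟨Z, g, h, hT⟩ := distinguished_cocone_triangle α
  refine dpc_mid hsum' hqs' hql' _ _ (u.map_distinguished _ hT) ?_ (dpc_of_acyclic _ fun i hi => ?_)
  · change DPC P' (max (m + b) (n + a)) (u.obj (DerivedCategory.Q.obj E))
    exact termwise_induction (P := P) (fun X => DPC P' (max (m + b) (n + a)) (u.obj X))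
      (fun X hX => dpc_of_acyclic _ fun i _ => (H C' i).map_isZero (u.map_isZero hX))
      (fun T hT h₁ h₃ => dpc_mid hsum' hqs' hql' _ _ (u.map_distinguished _ hT) h₁ h₃)
      m (n + 1 - m).toNat
      (fun j X hj hj' hX => (((hi X hX).shift (-j)).of_le (by omega)).of_iso
        (((u.commShiftIso (-j)).app _).symm ≪≫ u.mapIso (singleShift j X ≪≫ singleQ j X)))
      E (fun i hi => hE i (by omega)) hP
  · exact vanish_map u b hii (m - 1) Z (fun j hj => (dge_iff _ hT m).1 hα j (by omega)) i (by omega)

end Groth.Agent.H02CA.PC
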