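import Groth.Agent.H02CA.PC.Gen

/-!
# The coherent case
-/

set_option autoImplicit false
set_option linter.style.haveILetI false

universe w v u

open CategoryTheory CategoryTheory.Category CategoryTheory.Limits CochainComplex HomologicalComplex Pretriangulated

namespace Groth.Agent.H02CA.PC

variable {C : Type u} [Category.{v} C] [Abelian C] {P : ObjectProperty C}

lemma pre_of_mono {X Y : C} (f : X ⟶ Y) [Mono f] (h : Pre P Y) : Pre P X := fun E u hE =>
  ft_iso (kernelCompMono u f) (h E (u ≫ f) hE)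

lemma hqs_of_coh (hcoh : ∀ (X E : C) (u : E ⟶ X), P X → P E → PCoh.IsOfFiniteType P (kernel u)) :
    PCoh.IsQuasiStableUnderKernels P := by
  intro K hK _ hP
  have h := (HomologicalComplex.exactAt_iff' K 0 1 2 (by simp) (by simp)).1 (hK 1)
  haveI : Mono (K.sc' 0 1 2).f :=
    (ShortComplex.exact_iff_mono _ (K.shape 0 0 (by simp))).1
      ((HomologicalComplex.exactAt_iff' K 0 0 1 (by simp) (by simp)).1 (hK 0))
  exact ft_left _ h (ft_of_mem (hP 1 le_rfl)) fun E u hE => hcoh _ E u (hP 2 (by omega)) hE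

lemma ft_cycles_coh (hcoh : ∀ (X E : C) (u : E ⟶ X), P X → P E → PCoh.IsOfFiniteType P (kernel u))
    (E : CochainComplex C ℤ) (i : ℤ) (h : P (E.X i)) (h' : P (E.X (i + 1))) :
    PCoh.IsOfFiniteType P (E.cycles i) :=
  ft_iso (IsLimit.conePointUniqueUpToIso (kernelIsKernel _) (E.cyclesIsKernel i (i + 1) (by simp)))
    (ft_kernel (E.d i (i + 1)) (ft_of_mem h) fun A u hA => hcoh _ A u h' hA)

lemma ft_homology_coh (hcoh : ∀ (X E : C) (u : E ⟶ X), P X → P E → PCoh.IsOfFiniteType P (kernel u))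
    (E : CochainComplex C ℤ) (i : ℤ) (h : P (E.X i)) (h' : P (E.X (i + 1))) :
    PCoh.IsOfFiniteType P (E.homology i) :=
  ft_of_epi (E.homologyπ i) (ft_cycles_coh hcoh E i h h')

lemma pre_homology_coh [P.IsClosedUnderIsomorphisms] (hsum : ∀ X Y : C, P X → P Y → P (X ⨯ Y))
    (hql : PCoh.IsQuasiLiftable P)
    (hcoh : ∀ (X E : C) (u : E ⟶ X), P X → P E → PCoh.IsOfFiniteType P (kernel u))
    (E : CochainComplex C ℤ) (j i : ℤ) (hji : j + 1 = i) (h₀ : P (E.X j)) (h : P (E.X i)) :
    Pre P (E.homology i) := by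
  let S : ShortComplex C := ShortComplex.mk (E.toCycles j i) (E.homologyπ i) (by simp)
  haveI : Epi S.g := inferInstanceAs (Epi (E.homologyπ i))
  exact pre_right hsum hql S
    (ShortComplex.exact_of_g_is_cokernel _ (E.homologyIsCokernel j i (by simp; omega)))
    (ft_of_mem h₀) (pre_of_mono (E.iCycles i) fun A u hA => hcoh _ A u h hA)

variable [HasDerivedCategory.{w} C] [P.IsClosedUnderIsomorphisms] [P.ContainsZero]

/-- The coherence criterion, one direction. -/
theorem coh_of_dpc (hsum : ∀ X Y : C, P X → P Y → P (X ⨯ Y))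
    (hql : PCoh.IsQuasiLiftable P)
    (hcoh : ∀ (X E : C) (u : E ⟶ X), P X → P E → PCoh.IsOfFiniteType P (kernel u))
    (n : ℤ) {X : DerivedCategory C} (hX : DPC P n X) :
    PCoh.IsOfFiniteType P ((H C n).obj X) ∧
      ∀ i, n < i → PCoh.IsOfFiniteType P ((H C i).obj X) ∧ Pre P ((H C i).obj X) := by
  obtain ⟨E, ⟨-, hP⟩, ⟨e⟩⟩ := hX
  let η := fun i => (hIso E i).symm ≪≫ (H C i).mapIso e
  refine ⟨ft_iso (η n) (ft_homology_coh hcoh E n (hP n le_rfl) (hP _ (by omega))), fun i hi =>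
    ⟨ft_iso (η i) (ft_homology_coh hcoh E i (hP i hi.le) (hP _ (by omega))), ?_⟩⟩
  exact pre_of_mono (η i).inv
    (pre_homology_coh hsum hql hcoh E (i - 1) i (by omega) (hP _ (by omega)) (hP i hi.le))

/-- The coherence criterion, the other direction. -/
theorem dpc_of_coh (hsum : ∀ X Y : C, P X → P Y → P (X ⨯ Y))
    (hql : PCoh.IsQuasiLiftable P)
    (hcoh : ∀ (X E : C) (u : E ⟶ X), P X → P E → PCoh.IsOfFiniteType P (kernel u))
    (n c : ℤ) (hc : n ≤ c) {X : DerivedCategory C} (hac : ∀ i, c ≤ i → IsZero ((H C i).obj X))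
    (hft : ∀ i, n ≤ i → PCoh.IsOfFiniteType P ((H C i).obj X))
    (hpre : ∀ i, n < i → Pre P ((H C i).obj X)) : DPC P n X := by
  have hqs := hqs_of_coh hcoh
  obtain ⟨F, ⟨e⟩⟩ := exists_rep X
  obtain ⟨k, hk⟩ : ∃ k : ℕ, n + k = c := ⟨(c - n).toNat, by omega⟩
  obtain ⟨E₁, v₁, u₁, -, hv₁, hu₁⟩ := stages (P := P) hql hsum k n c hk (0 : Z0 C ⟶ F)
    (dge_zero _ _ (fun i _ => isZero_homology_Z0 i) fun i hi => isZero_homology_rep e i (hac i hi))
    (fun m hm hm' E' v u' _ hv hu' => by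
      let T := DerivedCategory.Q.mapTriangle.obj (CochainComplex.mappingCone.triangle u')
      have hT : T ∈ distTriang _ := DerivedCategory.mappingCone_triangle_distinguished u'
      let δ := DerivedCategory.HomologySequence.δ T m (m + 1) rfl
      let α := (H C (m + 1)).map T.mor₁
      let k : (H C m).obj T.obj₃ ⟶ kernel α := kernel.lift α δ
        (DerivedCategory.HomologySequence.δ_comp T hT m (m + 1) rfl)
      haveI : Epi k := ShortComplex.Exact.epi_kernelLift
        (DerivedCategory.HomologySequence.exact₁ T hT m (m + 1) rfl)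
      let S : ShortComplex C := ShortComplex.mk ((H C m).map T.mor₂) k (by
        rw [← cancel_mono (kernel.ι α)]
        simp [k, δ, DerivedCategory.HomologySequence.comp_δ T hT m (m + 1) rfl])
      have hS : S.Exact := by
        let φ : S ⟶ ShortComplex.mk ((H C m).map T.mor₂) δ
            (DerivedCategory.HomologySequence.comp_δ T hT m (m + 1) rfl) :=
          { τ₁ := 𝟙 _
            τ₂ := 𝟙 _
            τ₃ := kernel.ι α
            comm₁₂ := by simp [S]
            comm₂₃ := by simp [S, k] }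
        haveI : Epi φ.τ₁ := inferInstanceAs (Epi (𝟙 _))
        haveI : IsIso φ.τ₂ := inferInstanceAs (IsIso (𝟙 _))
        haveI : Mono φ.τ₃ := inferInstanceAs (Mono (kernel.ι _))
        exact (ShortComplex.exact_iff_of_epi_of_isIso_of_mono φ).2
          (DerivedCategory.HomologySequence.exact₃ T hT m (m + 1) rfl)
      haveI : Epi S.g := inferInstanceAs (Epi k)
      refine ft_iso (hIso _ m) (ft_mid hsum hql S hS (ft_iso ((H C m).mapIso e.symm) (hft m hm)) ?_)
      exact ft_kernel α (ft_iso (hIso E' (m + 1)).symm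
          (ft_homology_coh hcoh E' _ (hv.mem _ (zero_mem _)) (hv.mem _ (zero_mem _))))
        (pre_of_mono ((H C (m + 1)).mapIso e).hom (hpre (m + 1) (by omega))))
  refine dpc_of_dge hsum hqs hql n (DerivedCategory.Q.map u₁ ≫ e.hom) ⟨E₁, ⟨⟨c, fun i hi => ?_⟩,
    fun i _ => hv₁.mem i (zero_mem i)⟩, ⟨Iso.refl _⟩⟩ ((dge_comp_iso_iff n _ _).2 hu₁)
  haveI := hv₁.iso i (Or.inr (by omega))
  exact (asIso (v₁.f i)).isZero_iff.1 (isZero_zero_X i)

end Groth.Agent.H02CA.PC
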