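import Mathlib.Algebra.Homology.DerivedCategory.TStructure
import Mathlib.Algebra.Homology.HomotopyCategory.Triangulated
import Mathlib.Algebra.Homology.DerivedCategory.Fractions

/-!
# Maps which are isomorphisms in large degrees
-/

set_option autoImplicit false
set_option linter.style.haveILetI false

universe w v u

open CategoryTheory CategoryTheory.Category CategoryTheory.Limits Pretriangulated

namespace Groth.Agent.H02CA.PC

variable {C : Type u} [Category.{v} C] [Abelian C] [HasDerivedCategory.{w} C]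

/-- Cohomology in the derived category. -/
noncomputable abbrev H (C : Type u) [Category.{v} C] [Abelian C] [HasDerivedCategory.{w} C] (i : ℤ) :
    DerivedCategory C ⥤ C :=
  DerivedCategory.homologyFunctor C i

/-- An isomorphism on `H^i` for `i > n` and an epimorphism on `H^n`. -/
def DGe (n : ℤ) {X Y : DerivedCategory C} (α : X ⟶ Y) : Prop :=
  (∀ i, n ≤ i → Epi ((H C i).map α)) ∧ (∀ i, n < i → Mono ((H C i).map α))

lemma DGe.of_le {n m : ℤ} (h : n ≤ m) {X Y : DerivedCategory C} {α : X ⟶ Y} (hα : DGe n α) :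
    DGe m α := ⟨fun i hi => hα.1 i (by omega), fun i hi => hα.2 i (by omega)⟩

lemma DGe.of_isIso (n : ℤ) {X Y : DerivedCategory C} (α : X ⟶ Y) [IsIso α] : DGe n α :=
  ⟨fun _ _ => inferInstance, fun _ _ => inferInstance⟩

lemma DGe.comp {n : ℤ} {X Y Z : DerivedCategory C} {α : X ⟶ Y} {β : Y ⟶ Z} (hα : DGe n α)
    (hβ : DGe n β) : DGe n (α ≫ β) := by
  refine ⟨fun i hi => ?_, fun i hi => ?_⟩
  · haveI := hα.1 i hi; haveI := hβ.1 i hi; rw [Functor.map_comp]; infer_instance
  · haveI := hα.2 i hi; haveI := hβ.2 i hi; rw [Functor.map_comp]; infer_instance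

/-- Isomorphisms in degrees above `n` and an epimorphism in degree `n`. -/
lemma dge_iff_isIso (n : ℤ) {X Y : DerivedCategory C} (α : X ⟶ Y) :
    DGe n α ↔ (∀ i, n < i → IsIso ((H C i).map α)) ∧ Epi ((H C n).map α) := by
  refine ⟨fun h => ⟨fun i hi => ?_, h.1 n le_rfl⟩, fun h => ⟨fun i hi => ?_, fun i hi => ?_⟩⟩
  · haveI := h.1 i hi.le; haveI := h.2 i hi; exact isIso_of_mono_of_epi _
  · rcases hi.eq_or_lt with rfl | hi'
    · exact h.2
    · haveI := h.1 i hi'; infer_instance
  · haveI := h.1 i hi; infer_instance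

/-- The criterion by the cone. -/
lemma dge_iff (T : Triangle (DerivedCategory C)) (hT : T ∈ distTriang _) (n : ℤ) :
    DGe n T.mor₁ ↔ ∀ i, n ≤ i → IsZero ((H C i).obj T.obj₃) := by
  constructor
  · intro h i hi
    have h2 : (H C i).map T.mor₂ = 0 :=
      (DerivedCategory.HomologySequence.epi_homologyMap_mor₁_iff T hT i).1 (h.1 i hi)
    have h3 : DerivedCategory.HomologySequence.δ T i (i + 1) = 0 :=
      (DerivedCategory.HomologySequence.mono_homologyMap_mor₁_iff T hT i (i + 1)).1 (h.2 _ (by omega))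
    exact (DerivedCategory.HomologySequence.exact₃ T hT i (i + 1) rfl).isZero_X₂ h2 h3
  · intro h
    refine ⟨fun i hi => (DerivedCategory.HomologySequence.epi_homologyMap_mor₁_iff T hT i).2
      ((h i hi).eq_of_tgt _ _), fun i hi => ?_⟩
    exact (DerivedCategory.HomologySequence.mono_homologyMap_mor₁_iff T hT (i - 1) i (by omega)).2
      ((h (i - 1) (by omega)).eq_of_src _ _)

/-- `H^i` of a complex. -/
noncomputable def hIso (K : CochainComplex C ℤ) (i : ℤ) :
    (H C i).obj (DerivedCategory.Q.obj K) ≅ K.homology i :=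
  (DerivedCategory.homologyFunctorFactors C i).app K

lemma isZero_H_iff (K : CochainComplex C ℤ) (i : ℤ) :
    IsZero ((H C i).obj (DerivedCategory.Q.obj K)) ↔ IsZero (K.homology i) :=
  (hIso K i).isZero_iff

lemma epi_H_iff {K L : CochainComplex C ℤ} (f : K ⟶ L) (i : ℤ) :
    Epi ((H C i).map (DerivedCategory.Q.map f)) ↔ Epi (HomologicalComplex.homologyMap f i) :=
  (MorphismProperty.epimorphisms C).arrow_mk_iso_iff
    (Arrow.isoMk (hIso K i) (hIso L i) (DerivedCategory.homologyFunctorFactors_hom_naturality f i).symm)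

lemma mono_H_iff {K L : CochainComplex C ℤ} (f : K ⟶ L) (i : ℤ) :
    Mono ((H C i).map (DerivedCategory.Q.map f)) ↔ Mono (HomologicalComplex.homologyMap f i) :=
  (MorphismProperty.monomorphisms C).arrow_mk_iso_iff
    (Arrow.isoMk (hIso K i) (hIso L i) (DerivedCategory.homologyFunctorFactors_hom_naturality f i).symm)

/-- The criterion for chain maps. -/
lemma dge_Q_iff {K L : CochainComplex C ℤ} (f : K ⟶ L) (n : ℤ) :
    DGe n (DerivedCategory.Q.map f) ↔
      ∀ i, n ≤ i → IsZero ((CochainComplex.mappingCone f).homology i) :=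
  (dge_iff _ (DerivedCategory.mappingCone_triangle_distinguished f) n).trans
    ⟨fun h i hi => (isZero_H_iff _ i).1 (h i hi), fun h i hi => (isZero_H_iff _ i).2 (h i hi)⟩

/-- The criterion for chain maps, in terms of homology. -/
lemma dge_Q_iff' {K L : CochainComplex C ℤ} (f : K ⟶ L) (n : ℤ) :
    DGe n (DerivedCategory.Q.map f) ↔
      (∀ i, n < i → IsIso (HomologicalComplex.homologyMap f i)) ∧
        Epi (HomologicalComplex.homologyMap f n) := by
  rw [dge_iff_isIso, epi_H_iff]
  refine and_congr_left fun _ => forall₂_congr fun i _ => ?_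
  exact (MorphismProperty.isomorphisms C).arrow_mk_iso_iff
    (Arrow.isoMk (hIso K i) (hIso L i) (DerivedCategory.homologyFunctorFactors_hom_naturality f i).symm)

lemma quasiIso_of_dge {K L : CochainComplex C ℤ} (f : K ⟶ L)
    (h : ∀ n, DGe n (DerivedCategory.Q.map f)) : QuasiIso f := by
  rw [← DerivedCategory.isIso_Q_map_iff_quasiIso, DerivedCategory.isIso_iff]
  exact fun i => ((dge_iff_isIso _ _).1 (h (i - 1))).1 i (by omega)

lemma isZero_homology_of_isZero (K : CochainComplex C ℤ) (i : ℤ) (h : IsZero (K.X i)) :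
    IsZero (K.homology i) :=
  ShortComplex.isZero_homology_of_isZero_X₂ _ h

/-- Composition: if the second map is invertible the cones agree. -/
lemma dge_comp_iso_iff (n : ℤ) {X Y Z : DerivedCategory C} (α : X ⟶ Y) (β : Y ⟶ Z) [IsIso β] :
    DGe n (α ≫ β) ↔ DGe n α :=
  ⟨fun h => by simpa using h.comp (DGe.of_isIso n (inv β)), fun h => h.comp (DGe.of_isIso n β)⟩

lemma dge_iso_comp_iff (n : ℤ) {X Y Z : DerivedCategory C} (α : X ⟶ Y) (β : Y ⟶ Z) [IsIso α] :
    DGe n (α ≫ β) ↔ DGe n β :=
  ⟨fun h => by simpa using (DGe.of_isIso n (inv α)).comp h, fun h => (DGe.of_isIso n α).comp h⟩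

/-- The triangle of cones of a composition. -/
theorem compTriangle_distinguished {X₁ X₂ X₃ : CochainComplex C ℤ} (f : X₁ ⟶ X₂) (g : X₂ ⟶ X₃) :
    DerivedCategory.Q.mapTriangle.obj (CochainComplex.mappingConeCompTriangle f g) ∈ distTriang _ := by
  refine isomorphic_distinguished _
    (DerivedCategory.Qh.map_distinguished _
      (HomotopyCategory.mappingConeCompTriangleh_distinguished f g)) _ ?_
  exact (Functor.mapTriangleIso (DerivedCategory.quotientCompQhIso C)).symm.app _ ≪≫
    (Functor.mapTriangleCompIso _ _).app _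

end Groth.Agent.H02CA.PC
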