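import Groth.Agent.H02CA.PC.Step

/-!
# Pseudo-coherence in the derived category
-/

set_option autoImplicit false
set_option linter.style.haveILetI false

universe w v u

open CategoryTheory CategoryTheory.Category CategoryTheory.Limits CochainComplex HomologicalComplex Pretriangulated

namespace Groth.Agent.H02CA.PC

variable {C : Type u} [Category.{v} C] [Abelian C] {P : ObjectProperty C}

lemma strict_of_le {n m : ℤ} (h : n ≤ m) {E : CochainComplex C ℤ} (hE : PCoh.IsStrictPC P n E) :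
    PCoh.IsStrictPC P m E := ⟨hE.1, fun i hi => hE.2 i (by omega)⟩

lemma strict_shift {n : ℤ} {E : CochainComplex C ℤ} (hE : PCoh.IsStrictPC P n E) (m : ℤ) :
    PCoh.IsStrictPC P (n - m) (E⟦m⟧) := by
  obtain ⟨⟨b, hb⟩, hP⟩ := hE
  exact ⟨⟨b - m, fun i hi => hb (i + m) (by omega)⟩, fun i hi => hP (i + m) (by omega)⟩

variable [P.IsClosedUnderIsomorphisms]

lemma mem_cone (hsum : ∀ X Y : C, P X → P Y → P (X ⨯ Y)) {E F : CochainComplex C ℤ} (u : E ⟶ F)
    (j : ℤ) (hE : P (E.X (j + 1))) (hF : P (F.X j)) : P ((CochainComplex.mappingCone u).X j) :=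
  P.prop_of_iso (HomologicalComplex.homotopyCofiber.XIsoBiprod u j (j + 1) rfl).symm
    (mem_biprod hsum hE hF)

lemma isZero_cone {E F : CochainComplex C ℤ} (u : E ⟶ F) (j : ℤ) (hE : IsZero (E.X (j + 1)))
    (hF : IsZero (F.X j)) : IsZero ((CochainComplex.mappingCone u).X j) :=
  (HomologicalComplex.homotopyCofiber.XIsoBiprod u j (j + 1) rfl).isZero_iff.2
    ((biprod_isZero_iff _ _).2 ⟨hE, hF⟩)

lemma strict_cone (hsum : ∀ X Y : C, P X → P Y → P (X ⨯ Y)) {n : ℤ} {E F : CochainComplex C ℤ}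
    (u : E ⟶ F) (hE : PCoh.IsStrictPC P (n + 1) E) (hF : PCoh.IsStrictPC P n F) :
    PCoh.IsStrictPC P n (CochainComplex.mappingCone u) := by
  obtain ⟨⟨b, hb⟩, hP⟩ := hE
  obtain ⟨⟨b', hb'⟩, hP'⟩ := hF
  exact ⟨⟨max b b', fun i hi => isZero_cone u i (hb _ (by omega)) (hb' _ (by omega))⟩,
    fun i hi => mem_cone hsum u i (hP _ (by omega)) (hP' _ hi)⟩

variable [HasDerivedCategory.{w} C]

/-- Isomorphic to a strictly pseudo-coherent complex. -/
abbrev DPC (P : ObjectProperty C) (n : ℤ) (X : DerivedCategory C) : Prop :=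
  ∃ E : CochainComplex C ℤ, PCoh.IsStrictPC P n E ∧ Nonempty (DerivedCategory.Q.obj E ≅ X)

omit [P.IsClosedUnderIsomorphisms] in
lemma DPC.of_iso {n : ℤ} {X Y : DerivedCategory C} (h : DPC P n X) (e : X ≅ Y) : DPC P n Y := by
  obtain ⟨E, hE, ⟨e'⟩⟩ := h
  exact ⟨E, hE, ⟨e'.trans e⟩⟩

omit [P.IsClosedUnderIsomorphisms] in
lemma DPC.of_le {n m : ℤ} (hnm : n ≤ m) {X : DerivedCategory C} (h : DPC P n X) : DPC P m X := by
  obtain ⟨E, hE, he⟩ := h
  exact ⟨E, strict_of_le hnm hE, he⟩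

omit [P.IsClosedUnderIsomorphisms] in
lemma DPC.shift {n : ℤ} {X : DerivedCategory C} (h : DPC P n X) (m : ℤ) : DPC P (n - m) (X⟦m⟧) := by
  obtain ⟨E, hE, ⟨e⟩⟩ := h
  exact ⟨E⟦m⟧, strict_shift hE m,
    ⟨(DerivedCategory.Q.commShiftIso m).app E ≪≫ (CategoryTheory.shiftFunctor (DerivedCategory C) m).mapIso e⟩⟩

omit [P.IsClosedUnderIsomorphisms] in
lemma DPC.exists_bound {n : ℤ} {X : DerivedCategory C} (h : DPC P n X) :
    ∃ b, ∀ i, b < i → IsZero ((H C i).obj X) := by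
  obtain ⟨E, ⟨⟨b, hb⟩, -⟩, ⟨e⟩⟩ := h
  exact ⟨b, fun i hi => ((H C i).mapIso e).isZero_iff.1
    ((isZero_H_iff E i).2 (isZero_homology_of_isZero _ _ (hb i hi)))⟩

lemma DPC.ft (hqs : PCoh.IsQuasiStableUnderKernels P) {n : ℤ} {X : DerivedCategory C} (h : DPC P n X)
    (hac : ∀ i, n < i → IsZero ((H C i).obj X)) : PCoh.IsOfFiniteType P ((H C n).obj X) := by
  obtain ⟨E, hE, ⟨e⟩⟩ := h
  refine ft_iso ((hIso E n).symm ≪≫ (H C n).mapIso e) (ft_homology_top hqs n E hE fun i hi => ?_)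
  exact (isZero_H_iff E i).1 (((H C i).mapIso e).isZero_iff.2 (hac i hi))

lemma ft_cone_of_dpc (hqs : PCoh.IsQuasiStableUnderKernels P) {n : ℤ} {E F : CochainComplex C ℤ}
    (u : E ⟶ F) (hu : DGe (n + 1) (DerivedCategory.Q.map u))
    (h : DPC P n (DerivedCategory.Q.obj (CochainComplex.mappingCone u))) :
    PCoh.IsOfFiniteType P ((CochainComplex.mappingCone u).homology n) :=
  ft_iso (hIso _ n) (h.ft hqs fun i hi => (isZero_H_iff _ i).2 ((dge_Q_iff u (n + 1)).1 hu i (by omega)))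

omit [P.IsClosedUnderIsomorphisms] in
/-- The zero map is an isomorphism in the degrees where the cohomology vanishes. -/
lemma dge_zero {E F : CochainComplex C ℤ} (u : E ⟶ F) (n : ℤ) (hE : ∀ i, n ≤ i → IsZero (E.homology i))
    (hF : ∀ i, n ≤ i → IsZero (F.homology i)) : DGe n (DerivedCategory.Q.map u) :=
  (dge_Q_iff' u n).2 ⟨fun i hi => isIso_of_isZero (hE i hi.le) (hF i hi.le) _,
    ⟨fun _ _ _ => (hF n le_rfl).eq_of_src _ _⟩⟩

/-- The zero complex. -/
noncomputable abbrev Z0 (C : Type u) [Category.{v} C] [Abelian C] : CochainComplex C ℤ :=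
  HomologicalComplex.zero

omit [P.IsClosedUnderIsomorphisms] [HasDerivedCategory.{w} C] in
lemma isZero_zero_X (j : ℤ) : IsZero ((Z0 C).X j) := isZero_zero C

omit [HasDerivedCategory.{w} C] in
lemma zero_mem [P.ContainsZero] (j : ℤ) : P ((Z0 C).X j) := P.prop_of_isZero (isZero_zero_X j)

/-- A strictly pseudo-coherent source for a quasi-isomorphism to a strictly pseudo-coherent complex. -/
theorem resolve_strict [P.ContainsZero] (hsum : ∀ X Y : C, P X → P Y → P (X ⨯ Y))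
    (hqs : PCoh.IsQuasiStableUnderKernels P) (hql : PCoh.IsQuasiLiftable P) (n : ℤ)
    {E F : CochainComplex C ℤ} (hF : PCoh.IsStrictPC P n F) (u : E ⟶ F)
    (hu : IsIso (DerivedCategory.Q.map u)) :
    ∃ (F' : CochainComplex C ℤ) (v : F' ⟶ E), PCoh.IsStrictPC P n F' ∧ QuasiIso v := by
  haveI := hu
  obtain ⟨⟨b, hb⟩, hP⟩ := hF
  obtain ⟨k, hk⟩ : ∃ k : ℕ, b < n + k := ⟨(b - n).toNat + 1, by omega⟩
  have h0 : DGe (n + k) (DerivedCategory.Q.map (0 : Z0 C ⟶ E)) := by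
    rw [← dge_comp_iso_iff (n + k) _ (DerivedCategory.Q.map u), ← Functor.map_comp]
    exact dge_zero _ _ (fun i _ => isZero_homology_of_isZero _ _ (isZero_zero_X i))
      fun i hi => isZero_homology_of_isZero _ _ (hb i (by omega))
  obtain ⟨E₁, v₁, u₁, -, hv₁, hu₁⟩ := stages (P := P) hql hsum k n (n + k) rfl _ h0
    (fun m hm hm' E' v u' _ hv hu' => by
      have h₁ : PCoh.IsStrictPC P m E' :=
        ⟨⟨n + k, fun i hi => by
          haveI := hv.iso i (Or.inr (by omega))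
          exact (asIso (v.f i)).isZero_iff.1 (isZero_zero_X i)⟩,
          fun i _ => hv.mem i (zero_mem i)⟩
      let T := DerivedCategory.Q.mapTriangle.obj (CochainComplex.mappingConeCompTriangle u' u)
      haveI : IsIso T.mor₁ := (Triangle.isZero₃_iff_isIso₁ T (compTriangle_distinguished u' u)).1 <| by
        change IsZero (DerivedCategory.Q.obj (CochainComplex.mappingCone u))
        exact (Triangle.isZero₃_iff_isIso₁ _
          (DerivedCategory.mappingCone_triangle_distinguished u)).2 hu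
      refine ft_cone_of_dpc hqs u' hu' (DPC.of_iso ⟨_, ?_, ⟨Iso.refl _⟩⟩ (asIso T.mor₁).symm)
      exact strict_cone hsum (u' ≫ u) (strict_of_le (by omega) h₁) ⟨⟨b, hb⟩, fun i hi => hP i (by omega)⟩)
  obtain ⟨E₂, v₂, u₂, -, hu₂, -, hv₂⟩ := trunc n u₁ hu₁
  refine ⟨E₂, u₂, ⟨⟨n + k, fun i hi => ?_⟩, fun i hi => ?_⟩, hu₂⟩
  · haveI := hv₂ i (by omega)
    haveI := hv₁.iso i (Or.inr (by omega))
    exact (asIso (v₁.f i) ≪≫ asIso (v₂.f i)).isZero_iff.1 (isZero_zero_X i)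
  · haveI := hv₂ i hi
    exact P.prop_of_iso (asIso (v₂.f i)) (hv₁.mem i (zero_mem i))

/-- Representing a morphism by a map of strictly pseudo-coherent complexes. -/
theorem dpc_cone [P.ContainsZero] (hsum : ∀ X Y : C, P X → P Y → P (X ⨯ Y))
    (hqs : PCoh.IsQuasiStableUnderKernels P) (hql : PCoh.IsQuasiLiftable P) (n : ℤ)
    (T : Triangle (DerivedCategory C)) (hT : T ∈ distTriang _) (h₁ : DPC P (n + 1) T.obj₁)
    (h₂ : DPC P n T.obj₂) : DPC P n T.obj₃ := by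
  obtain ⟨E, hE, ⟨e₁⟩⟩ := h₁
  obtain ⟨F, hF, ⟨e₂⟩⟩ := h₂
  obtain ⟨E₀, s, hs, f, hf⟩ := DerivedCategory.right_fac (e₁.hom ≫ T.mor₁ ≫ e₂.inv)
  obtain ⟨E', t, hE', ht⟩ := resolve_strict hsum hqs hql (n + 1) hE s hs
  haveI := hs
  let et : DerivedCategory.Q.obj E' ≅ DerivedCategory.Q.obj E₀ := asIso (DerivedCategory.Q.map t)
  refine ⟨CochainComplex.mappingCone (t ≫ f), strict_cone hsum _ hE' hF, ⟨?_⟩⟩
  exact Triangle.π₃.mapIso (isoTriangleOfIso₁₂ _ T
    (DerivedCategory.mappingCone_triangle_distinguished (t ≫ f)) hT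
    (et ≪≫ asIso (DerivedCategory.Q.map s) ≪≫ e₁) e₂ (by
      dsimp
      have hf' : DerivedCategory.Q.map f = DerivedCategory.Q.map s ≫ e₁.hom ≫ T.mor₁ ≫ e₂.inv := by
        rw [hf, IsIso.hom_inv_id_assoc]
      simp [et]
      show DerivedCategory.Q.map (t ≫ f) ≫ e₂.hom = _
      simp [hf']
      rfl))

/-- Extensions of pseudo-coherent objects. -/
theorem dpc_mid [P.ContainsZero] (hsum : ∀ X Y : C, P X → P Y → P (X ⨯ Y))
    (hqs : PCoh.IsQuasiStableUnderKernels P) (hql : PCoh.IsQuasiLiftable P) (n : ℤ)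
    (T : Triangle (DerivedCategory C)) (hT : T ∈ distTriang _) (h₁ : DPC P n T.obj₁)
    (h₃ : DPC P n T.obj₃) : DPC P n T.obj₂ := by
  have h := h₃.shift (-1)
  exact dpc_cone hsum hqs hql n T.invRotate (inv_rot_of_distTriang _ hT)
    (h.of_le (by omega)) h₁

/-- Sources of maps of pseudo-coherent objects. -/
theorem dpc_left [P.ContainsZero] (hsum : ∀ X Y : C, P X → P Y → P (X ⨯ Y))
    (hqs : PCoh.IsQuasiStableUnderKernels P) (hql : PCoh.IsQuasiLiftable P) (n : ℤ)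
    (T : Triangle (DerivedCategory C)) (hT : T ∈ distTriang _) (h₂ : DPC P (n + 1) T.obj₂)
    (h₃ : DPC P n T.obj₃) : DPC P (n + 1) T.obj₁ := by
  have h := dpc_cone hsum hqs hql n T.rotate (rot_of_distTriang _ hT) h₂ h₃
  exact (((h.shift (-1)).of_le (by omega)).of_iso
    ((shiftEquiv (DerivedCategory C) (1 : ℤ)).unitIso.app T.obj₁).symm)

end Groth.Agent.H02CA.PC
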