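import Groth.Prelude.Def_PCoh
import Mathlib.CategoryTheory.Abelian.Refinements
import Mathlib.CategoryTheory.Abelian.Exact
import Mathlib.Algebra.Homology.ShortComplex.Abelian

/-!
# Objects of finite type relative to a class
-/

set_option autoImplicit false
set_option linter.style.haveILetI false

universe v u

open CategoryTheory CategoryTheory.Category CategoryTheory.Limits

namespace Groth.Agent.H02CA.PC

variable {C : Type u} [Category.{v} C] [Abelian C] {P : ObjectProperty C}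

/-- Precoherence relative to a class. -/
abbrev Pre (P : ObjectProperty C) (X : C) : Prop :=
  ∀ (E : C) (u : E ⟶ X), P E → PCoh.IsOfFiniteType P (kernel u)

lemma ft_of_mem {X : C} (h : P X) : PCoh.IsOfFiniteType P X := ⟨X, 𝟙 X, h, inferInstance⟩

lemma ft_of_epi {X Y : C} (f : X ⟶ Y) [Epi f] (h : PCoh.IsOfFiniteType P X) :
    PCoh.IsOfFiniteType P Y := by
  obtain ⟨E, π, hE, hπ⟩ := h
  exact ⟨E, π ≫ f, hE, epi_comp π f⟩

lemma ft_iso {X Y : C} (e : X ≅ Y) (h : PCoh.IsOfFiniteType P X) : PCoh.IsOfFiniteType P Y :=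
  ft_of_epi e.hom h

lemma ft_of_isZero [P.IsClosedUnderIsomorphisms] [P.ContainsZero] {X : C} (h : IsZero X) :
    PCoh.IsOfFiniteType P X := ft_of_mem (P.prop_of_isZero h)

lemma mem_biprod [P.IsClosedUnderIsomorphisms] (hsum : ∀ X Y : C, P X → P Y → P (X ⨯ Y))
    {X Y : C} (hX : P X) (hY : P Y) : P (X ⊞ Y) :=
  P.prop_of_iso (biprod.isoProd X Y).symm (hsum X Y hX hY)

lemma mem_biprod_left [P.IsClosedUnderIsomorphisms] {X Y : C} (hX : P X) (hY : IsZero Y) :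
    P (X ⊞ Y) :=
  P.prop_of_iso ((isoBiprodZero hY)) hX

/-- Lifting along epimorphisms up to a cover from the class. -/
lemma exists_lift (hql : PCoh.IsQuasiLiftable P) {G H : C} (f : G ⟶ H) [Epi f] {E : C}
    (g : E ⟶ H) (hE : P E) :
    ∃ (E' : C) (π : E' ⟶ E) (l : E' ⟶ G), P E' ∧ Epi π ∧ π ≫ g = l ≫ f := by
  obtain ⟨E', w, hE', hw⟩ := hql (pullback g f) E (pullback.fst g f) inferInstance hE
  exact ⟨E', w ≫ pullback.fst g f, w ≫ pullback.snd g f, hE', hw,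
    by rw [assoc, assoc, pullback.condition]⟩

/-- Kernel of a map into a precoherent object from an object of finite type. -/
lemma ft_kernel {Y Z : C} (g : Y ⟶ Z) (hY : PCoh.IsOfFiniteType P Y) (hZ : Pre P Z) :
    PCoh.IsOfFiniteType P (kernel g) := by
  obtain ⟨E, π, hE, hπ⟩ := hY
  let k : kernel (π ≫ g) ⟶ kernel g :=
    kernel.lift g (kernel.ι (π ≫ g) ≫ π) (by rw [assoc, kernel.condition])
  haveI : Epi k := by
    rw [epi_iff_surjective_up_to_refinements]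
    intro A y
    obtain ⟨A', ρ, hρ, x, hx⟩ := surjective_up_to_refinements_of_epi π (y ≫ kernel.ι g)
    refine ⟨A', ρ, hρ, kernel.lift _ x (by
      rw [← assoc, ← hx, assoc, assoc, kernel.condition, comp_zero, comp_zero]), ?_⟩
    simp only [← cancel_mono (kernel.ι g), assoc, k, kernel.lift_ι, kernel.lift_ι_assoc]
    exact hx
  exact ft_of_epi k (hZ E (π ≫ g) hE)

/-- The left term of a left exact sequence. -/
theorem ft_left (S : ShortComplex C) (hS : S.Exact) [Mono S.f] (hG : PCoh.IsOfFiniteType P S.X₂)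
    (hH : Pre P S.X₃) : PCoh.IsOfFiniteType P S.X₁ :=
  ft_iso (IsLimit.conePointUniqueUpToIso (kernelIsKernel S.g) hS.fIsKernel) (ft_kernel S.g hG hH)

/-- Quotients of precoherent objects by subobjects of finite type. -/
theorem pre_right [P.IsClosedUnderIsomorphisms] (hsum : ∀ X Y : C, P X → P Y → P (X ⨯ Y))
    (hql : PCoh.IsQuasiLiftable P) (S : ShortComplex C) (hS : S.Exact) [Epi S.g]
    (hF : PCoh.IsOfFiniteType P S.X₁) (hG : Pre P S.X₂) : Pre P S.X₃ := by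
  intro E u hE
  obtain ⟨E', π, l, hE', hπ, hl⟩ := exists_lift hql S.g u hE
  obtain ⟨E'', ρ, hE'', hρ⟩ := hF
  let m : E' ⊞ E'' ⟶ S.X₂ := biprod.desc l (ρ ≫ S.f)
  let k : kernel m ⟶ kernel u := kernel.lift u (kernel.ι m ≫ biprod.fst ≫ π) (by
    have h : (biprod.fst ≫ π ≫ u : E' ⊞ E'' ⟶ S.X₃) = m ≫ S.g := by
      apply biprod.hom_ext' <;> simp [m, hl]
    rw [assoc, assoc, h, kernel.condition_assoc, zero_comp])
  haveI : Epi k := by
    rw [epi_iff_surjective_up_to_refinements]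
    intro A y
    obtain ⟨A₁, ρ₁, h₁, x, hx⟩ := surjective_up_to_refinements_of_epi π (y ≫ kernel.ι u)
    have hxl : (x ≫ l) ≫ S.g = 0 := by
      rw [assoc, ← hl, ← assoc, ← hx, assoc, assoc, kernel.condition, comp_zero, comp_zero]
    obtain ⟨A₂, ρ₂, h₂, z, hz⟩ := hS.exact_up_to_refinements (x ≫ l) hxl
    obtain ⟨A₃, ρ₃, h₃, w, hw⟩ := surjective_up_to_refinements_of_epi ρ z
    refine ⟨A₃, ρ₃ ≫ ρ₂ ≫ ρ₁, inferInstance, kernel.lift m (biprod.lift (ρ₃ ≫ ρ₂ ≫ x) (-w)) ?_, ?_⟩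
    · rw [biprod.lift_desc, Preadditive.neg_comp, ← assoc w, ← hw]
      simp only [assoc]
      rw [← hz, add_neg_cancel]
    · rw [← cancel_mono (kernel.ι u)]
      simp only [k, assoc, kernel.lift_ι, kernel.lift_ι_assoc, biprod.lift_fst_assoc]
      rw [hx]
  exact ft_of_epi k (hG _ m (mem_biprod hsum hE' hE''))

/-- Extensions of precoherent objects. -/
theorem pre_mid (S : ShortComplex C) (hS : S.ShortExact) (h₁ : Pre P S.X₁) (h₃ : Pre P S.X₃) :
    Pre P S.X₂ := by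
  intro E u hE
  haveI := hS.mono_f
  obtain ⟨E₁, ρ, hE₁, hρ⟩ := h₃ E (u ≫ S.g) hE
  let a : E₁ ⟶ S.X₁ := hS.exact.lift (ρ ≫ kernel.ι (u ≫ S.g) ≫ u)
    (by rw [assoc, assoc, kernel.condition, comp_zero])
  have ha : a ≫ S.f = ρ ≫ kernel.ι (u ≫ S.g) ≫ u := hS.exact.lift_f _ _
  let k : kernel a ⟶ kernel u := kernel.lift u (kernel.ι a ≫ ρ ≫ kernel.ι (u ≫ S.g))
    (by rw [assoc, assoc, ← ha, kernel.condition_assoc, zero_comp])
  haveI : Epi k := by
    rw [epi_iff_surjective_up_to_refinements]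
    intro A y
    let y' : A ⟶ kernel (u ≫ S.g) := kernel.lift _ (y ≫ kernel.ι u) (by
      rw [assoc, kernel.condition_assoc, zero_comp, comp_zero])
    obtain ⟨A₁, ρ₁, hρ₁, x, hx⟩ := surjective_up_to_refinements_of_epi ρ y'
    refine ⟨A₁, ρ₁, hρ₁, kernel.lift a x ?_, ?_⟩
    · rw [← cancel_mono S.f, zero_comp, assoc, ha, ← assoc x, ← hx]
      simp [y']
    · rw [← cancel_mono (kernel.ι u)]
      simp only [k, assoc, kernel.lift_ι, kernel.lift_ι_assoc]
      rw [← assoc x, ← hx]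
      simp [y']
  exact ft_of_epi k (h₁ E₁ a hE₁)

/-- Extensions of objects of finite type. -/
theorem ft_mid [P.IsClosedUnderIsomorphisms] (hsum : ∀ X Y : C, P X → P Y → P (X ⨯ Y))
    (hql : PCoh.IsQuasiLiftable P) (S : ShortComplex C) (hS : S.Exact) [Epi S.g]
    (h₁ : PCoh.IsOfFiniteType P S.X₁) (h₃ : PCoh.IsOfFiniteType P S.X₃) :
    PCoh.IsOfFiniteType P S.X₂ := by
  obtain ⟨E₁, ρ₁, hE₁, hρ₁⟩ := h₁
  obtain ⟨E₃, ρ₃, hE₃, hρ₃⟩ := h₃
  obtain ⟨E', π, l, hE', hπ, hl⟩ := exists_lift hql S.g ρ₃ hE₃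
  refine ⟨E' ⊞ E₁, biprod.desc l (ρ₁ ≫ S.f), mem_biprod hsum hE' hE₁, ?_⟩
  rw [epi_iff_surjective_up_to_refinements]
  intro A y
  obtain ⟨A₁, q₁, h₁, x, hx⟩ := surjective_up_to_refinements_of_epi (π ≫ ρ₃) (y ≫ S.g)
  rw [hl] at hx
  obtain ⟨A₂, q₂, h₂, z, hz⟩ := hS.exact_up_to_refinements (q₁ ≫ y - x ≫ l)
    (by rw [Preadditive.sub_comp, assoc, hx, assoc, sub_self])
  obtain ⟨A₃, q₃, h₃, w, hw⟩ := surjective_up_to_refinements_of_epi ρ₁ z
  refine ⟨A₃, q₃ ≫ q₂ ≫ q₁, inferInstance, biprod.lift (q₃ ≫ q₂ ≫ x) w, ?_⟩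
  rw [biprod.lift_desc, ← assoc w, ← hw]
  simp only [assoc]
  rw [← hz]
  simp [Preadditive.comp_sub]

end Groth.Agent.H02CA.PC
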