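import Groth.Agent.H02CA.PC.DPC
import Mathlib.Algebra.Homology.DerivedCategory.SingleTriangle
import Mathlib.Algebra.Homology.DerivedCategory.FullyFaithful
import Mathlib.Algebra.Homology.DerivedCategory.ShortExact

/-!
# Consequences of the two-out-of-three property
-/

set_option autoImplicit false
set_option linter.style.haveILetI false

universe w v u

open CategoryTheory CategoryTheory.Category CategoryTheory.Limits CochainComplex HomologicalComplex Pretriangulated

namespace Groth.Agent.H02CA.PC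

variable {C : Type u} [Category.{v} C] [Abelian C] [HasDerivedCategory.{w} C] {P : ObjectProperty C}

/-- A complex representing an object. -/
lemma exists_rep (X : DerivedCategory C) :
    ∃ F : CochainComplex C ℤ, Nonempty (DerivedCategory.Q.obj F ≅ X) :=
  ⟨DerivedCategory.Q.objPreimage X, ⟨DerivedCategory.Q.objObjPreimageIso X⟩⟩

lemma isZero_homology_rep {X : DerivedCategory C} {F : CochainComplex C ℤ}
    (e : DerivedCategory.Q.obj F ≅ X) (i : ℤ) (h : IsZero ((H C i).obj X)) : IsZero (F.homology i) :=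
  (isZero_H_iff F i).1 (((H C i).mapIso e).isZero_iff.2 h)

lemma isZero_homology_Z0 (i : ℤ) : IsZero ((Z0 C).homology i) :=
  isZero_homology_of_isZero _ _ (isZero_zero_X i)

/-- The cohomology of a one-object complex. -/
noncomputable def hSingle (j : ℤ) (X : C) : (H C j).obj ((DerivedCategory.singleFunctor C j).obj X) ≅ X :=
  (DerivedCategory.singleFunctorCompHomologyFunctorIso C j).app X

lemma isZero_H_single (j i : ℤ) (h : i ≠ j) (X : C) :
    IsZero ((H C i).obj ((DerivedCategory.singleFunctor C j).obj X)) := by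
  rcases lt_or_gt_of_ne h with h | h
  · exact DerivedCategory.isZero_of_isGE _ j i h
  · exact DerivedCategory.isZero_of_isLE _ j i h

/-- Moving a one-object complex. -/
noncomputable def singleShift (j : ℤ) (X : C) :
    ((DerivedCategory.singleFunctor C 0).obj X)⟦-j⟧ ≅ (DerivedCategory.singleFunctor C j).obj X :=
  ((DerivedCategory.singleFunctors C).shiftIso (-j) j 0 (by omega)).app X

/-- One-object complexes are complexes. -/
noncomputable def singleQ (j : ℤ) (X : C) : (DerivedCategory.singleFunctor C j).obj X ≅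
    DerivedCategory.Q.obj ((HomologicalComplex.single C (ComplexShape.up ℤ) j).obj X) :=
  (DerivedCategory.singleFunctorIsoCompQ C j).app X

lemma DPC.single {n m j : ℤ} (h : n + j ≤ m) {X : C}
    (hX : DPC P n ((DerivedCategory.singleFunctor C 0).obj X)) :
    DPC P m ((DerivedCategory.singleFunctor C j).obj X) :=
  ((hX.shift (-j)).of_le (by omega)).of_iso (singleShift j X)

variable [P.IsClosedUnderIsomorphisms] [P.ContainsZero]

lemma dpc_single_of_mem {X : C} (hX : P X) (j n : ℤ) :
    DPC P n ((DerivedCategory.singleFunctor C j).obj X) := by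
  refine ⟨_, ⟨⟨j, fun i hi => isZero_single_obj_X _ _ _ _ (by omega)⟩, fun i _ => ?_⟩,
    ⟨(singleQ j X).symm⟩⟩
  by_cases h : i = j
  · subst h
    exact P.prop_of_iso (singleObjXSelf _ i X).symm hX
  · exact P.prop_of_isZero (isZero_single_obj_X _ _ _ _ h)

/-- Objects with no cohomology from a degree on. -/
lemma dpc_of_acyclic (n : ℤ) {X : DerivedCategory C} (h : ∀ i, n ≤ i → IsZero ((H C i).obj X)) :
    DPC P n X := by
  obtain ⟨F, ⟨e⟩⟩ := exists_rep X
  obtain ⟨E, v, u', -, hu, -, hv⟩ := trunc n (0 : Z0 C ⟶ F)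
    (dge_zero _ _ (fun i _ => isZero_homology_Z0 i) fun i hi => isZero_homology_rep e i (h i hi))
  have hz : ∀ i, n ≤ i → IsZero (E.X i) := fun i hi => by
    haveI := hv i hi
    exact (asIso (v.f i)).isZero_iff.1 (isZero_zero_X i)
  haveI := hu
  exact ⟨E, ⟨⟨n, fun i hi => hz i hi.le⟩, fun i hi => P.prop_of_isZero (hz i hi)⟩,
    ⟨asIso (DerivedCategory.Q.map u') ≪≫ e⟩⟩

variable (hsum : ∀ X Y : C, P X → P Y → P (X ⨯ Y))
include hsum

/-- Completion of a map of pseudo-coherent complexes to a quasi-isomorphism. -/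
theorem complete (hqs : PCoh.IsQuasiStableUnderKernels P) (hql : PCoh.IsQuasiLiftable P) (n i : ℤ)
    {E F : CochainComplex C ℤ} (hE : PCoh.IsStrictPC P n E)
    (hF : DPC P n (DerivedCategory.Q.obj F)) (u : E ⟶ F) (hu : DGe i (DerivedCategory.Q.map u)) :
    ∃ (E' : CochainComplex C ℤ) (v : E ⟶ E') (u' : E' ⟶ F), v ≫ u' = u ∧ PCoh.IsStrictPC P n E' ∧
      QuasiIso u' ∧ (∀ j, Mono (v.f j)) ∧ (∀ j, i ≤ j → IsIso (v.f j)) := by
  obtain ⟨⟨b, hb⟩, hP⟩ := hE
  obtain ⟨n', hn', hn'', k, hk⟩ : ∃ n', n' ≤ n ∧ n' ≤ i ∧ ∃ k : ℕ, n' + k = i ∧ (n' < n → k = 0) :=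
    ⟨min n i, by omega, by omega, (i - n).toNat, by omega, by omega⟩
  obtain ⟨E₁, v₁, u₁, h₁, hv₁, hu₁⟩ := stages (P := P) hql hsum k n' i hk.1 u hu
    (fun m hm hm' E' v u' _ hv hu' => by
      have hm'' : n ≤ m := by
        by_contra hc
        have := hk.2 (by omega)
        omega
      have hE' : PCoh.IsStrictPC P (m + 1) E' :=
        ⟨⟨max b i, fun j hj => by
          haveI := hv.iso j (Or.inr (by omega))
          exact (asIso (v.f j)).isZero_iff.1 (hb j (by omega))⟩,
          fun j hj => hv.mem j (hP j (by omega))⟩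
      exact ft_cone_of_dpc hqs u' hu' (dpc_cone hsum hqs hql m _
        (DerivedCategory.mappingCone_triangle_distinguished u') ⟨E', hE', ⟨Iso.refl _⟩⟩
        (hF.of_le hm'')))
  obtain ⟨E₂, v₂, u₂, h₂, hu₂, hm₂, hv₂⟩ := trunc n' u₁ hu₁
  refine ⟨E₂, v₁ ≫ v₂, u₂, by rw [assoc, h₂, h₁], ⟨⟨max b i, fun j hj => ?_⟩, fun j hj => ?_⟩, hu₂,
    fun j => ?_, fun j hj => ?_⟩
  · haveI := hv₂ j (by omega)
    haveI := hv₁.iso j (Or.inr (by omega))
    exact (asIso (v₁.f j) ≪≫ asIso (v₂.f j)).isZero_iff.1 (hb j (by omega))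
  · haveI := hv₂ j (by omega)
    exact P.prop_of_iso (asIso (v₂.f j)) (hv₁.mem j (hP j hj))
  · rw [HomologicalComplex.comp_f]
    haveI := hm₂ j
    haveI := hv₁.mono j
    infer_instance
  · rw [HomologicalComplex.comp_f]
    haveI := hv₂ j (by omega)
    haveI := hv₁.iso j (Or.inr hj)
    infer_instance

/-- Approximation by bounded complexes. -/
theorem exists_approx (hqs : PCoh.IsQuasiStableUnderKernels P) (hql : PCoh.IsQuasiLiftable P)
    (n c : ℤ) (hc : n ≤ c) {X : DerivedCategory C} (hX : DPC P n X)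
    (hac : ∀ i, c ≤ i → IsZero ((H C i).obj X)) :
    ∃ (E : CochainComplex C ℤ) (α : DerivedCategory.Q.obj E ⟶ X),
      (∀ i, i < n ∨ c ≤ i → IsZero (E.X i)) ∧ (∀ i, P (E.X i)) ∧ DGe n α := by
  obtain ⟨F, ⟨e⟩⟩ := exists_rep X
  obtain ⟨k, hk⟩ : ∃ k : ℕ, n + k = c := ⟨(c - n).toNat, by omega⟩
  obtain ⟨E₁, v₁, u₁, -, hv₁, hu₁⟩ := stages (P := P) hql hsum k n c hk (0 : Z0 C ⟶ F)
    (dge_zero _ _ (fun i _ => isZero_homology_Z0 i) fun i hi => isZero_homology_rep e i (hac i hi))
    (fun m hm hm' E' v u' _ hv hu' => by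
      have hE' : PCoh.IsStrictPC P (m + 1) E' :=
        ⟨⟨c, fun j hj => by
          haveI := hv.iso j (Or.inr (by omega))
          exact (asIso (v.f j)).isZero_iff.1 (isZero_zero_X j)⟩,
          fun j _ => hv.mem j (zero_mem j)⟩
      exact ft_cone_of_dpc hqs u' hu' (dpc_cone hsum hqs hql m _
        (DerivedCategory.mappingCone_triangle_distinguished u') ⟨E', hE', ⟨Iso.refl _⟩⟩
        ((hX.of_le hm).of_iso e.symm)))
  refine ⟨E₁, DerivedCategory.Q.map u₁ ≫ e.hom, fun i hi => ?_, fun i => hv₁.mem i (zero_mem i),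
    (dge_comp_iso_iff n _ _).2 hu₁⟩
  haveI := hv₁.iso i hi
  exact (asIso (v₁.f i)).isZero_iff.1 (isZero_zero_X i)

/-- Objects approximated by pseudo-coherent ones. -/
theorem dpc_of_dge (hqs : PCoh.IsQuasiStableUnderKernels P) (hql : PCoh.IsQuasiLiftable P) (n : ℤ)
    {X Y : DerivedCategory C} (α : X ⟶ Y) (hX : DPC P n X) (hα : DGe n α) : DPC P n Y := by
  obtain ⟨Z, g, h, hT⟩ := distinguished_cocone_triangle α
  exact dpc_mid hsum hqs hql n _ hT hX (dpc_of_acyclic n ((dge_iff _ hT n).1 hα))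

/-- The criterion in the top degree. -/
theorem dpc_of_ft (hqs : PCoh.IsQuasiStableUnderKernels P) (hql : PCoh.IsQuasiLiftable P) (n : ℤ)
    {X : DerivedCategory C} (hac : ∀ i, n < i → IsZero ((H C i).obj X))
    (hft : PCoh.IsOfFiniteType P ((H C n).obj X)) : DPC P n X := by
  obtain ⟨F, ⟨e⟩⟩ := exists_rep X
  have hF : ∀ i, n < i → IsZero (F.homology i) := fun i hi => isZero_homology_rep e i (hac i hi)
  have h0 : DGe (n + 1) (DerivedCategory.Q.map (0 : Z0 C ⟶ F)) :=
    dge_zero _ _ (fun i _ => isZero_homology_Z0 i) fun i hi => hF i (by omega)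
  have hft' : PCoh.IsOfFiniteType P ((CochainComplex.mappingCone (0 : Z0 C ⟶ F)).homology n) := by
    let T := DerivedCategory.Q.mapTriangle.obj (CochainComplex.mappingCone.triangle (0 : Z0 C ⟶ F))
    have hT₂ : IsIso T.mor₂ := (Triangle.isZero₁_iff_isIso₂ T
      (DerivedCategory.mappingCone_triangle_distinguished _)).1 <| by
        change IsZero (DerivedCategory.Q.obj (Z0 C))
        exact DerivedCategory.Q.map_isZero HomologicalComplex.isZero_zero
    exact ft_iso (((H C n).mapIso (e.symm ≪≫ @asIso _ _ _ _ T.mor₂ hT₂)) ≪≫ hIso _ n) hft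
  obtain ⟨E', v, u', -, hv, -, hu'⟩ := step hql hsum n (0 : Z0 C ⟶ F) h0 hft'
  refine dpc_of_dge hsum hqs hql n (DerivedCategory.Q.map u' ≫ e.hom) ⟨E', ⟨⟨n + 1, fun j hj => ?_⟩,
    fun j _ => hv.mem j (zero_mem j)⟩, ⟨Iso.refl _⟩⟩ ((dge_comp_iso_iff n _ _).2 hu')
  haveI := hv.iso j (Or.inr (by omega))
  exact (asIso (v.f j)).isZero_iff.1 (isZero_zero_X j)

/-- Descending along the cohomology objects. -/
theorem dpc_of_homology (hqs : PCoh.IsQuasiStableUnderKernels P) (hql : PCoh.IsQuasiLiftable P)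
    (n : ℤ) : ∀ (k : ℕ) (X : DerivedCategory C), (∀ i, n + k ≤ i → IsZero ((H C i).obj X)) →
    (∀ i, n ≤ i → DPC P (n - i) ((DerivedCategory.singleFunctor C 0).obj ((H C i).obj X))) →
    DPC P n X := by
  intro k
  induction k with
  | zero => exact fun X hX _ => dpc_of_acyclic n fun i hi => hX i (by omega)
  | succ k ih =>
    intro X hX hfp
    obtain ⟨F, ⟨e⟩⟩ := exists_rep X
    let p : ℤ := n + k - 1
    let T := DerivedCategory.Q.mapTriangle.obj
      (CochainComplex.mappingCone.triangle (F.ιTruncLE p))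
    have hT : T ∈ distTriang _ := DerivedCategory.mappingCone_triangle_distinguished _
    have h₁ : ∀ i, p < i → IsZero ((H C i).obj T.obj₁) := fun i hi =>
      (isZero_H_iff _ i).2 (isZero_homology_of_isZero _ _ ((F.truncLE p).isZero_of_isStrictlyLE p i hi))
    have hiso : ∀ i, i ≤ p → IsIso ((H C i).map T.mor₁) := fun i hi => by
      haveI := CochainComplex.quasiIsoAt_ιTruncLE F p i hi
      exact ((MorphismProperty.isomorphisms C).arrow_mk_iso_iff (Arrow.isoMk (hIso _ i) (hIso _ i)
        (DerivedCategory.homologyFunctorFactors_hom_naturality _ i).symm)).2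
          ((quasiIsoAt_iff_isIso_homologyMap (F.ιTruncLE p) i).1 inferInstance)
    have hsucc : ∀ i, Mono ((H C (i + 1)).map T.mor₁) := fun i => by
      by_cases hi : i + 1 ≤ p
      · haveI := hiso (i + 1) hi
        infer_instance
      · exact ⟨fun _ _ _ => (h₁ _ (by omega)).eq_of_tgt _ _⟩
    have h₃ : ∀ i, i ≠ n + k → IsZero ((H C i).obj T.obj₃) := by
      intro i hi
      refine (DerivedCategory.HomologySequence.exact₃ T hT i (i + 1) rfl).isZero_X₂ ?_
        ((DerivedCategory.HomologySequence.mono_homologyMap_mor₁_iff T hT i (i + 1) rfl).1 (hsucc i))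
      by_cases hi' : i ≤ p
      · haveI := hiso i hi'
        exact (DerivedCategory.HomologySequence.epi_homologyMap_mor₁_iff T hT i).1 inferInstance
      · exact ((((H C i).mapIso e).isZero_iff).2 (hX i (by omega))).eq_of_src _ _
    haveI : Mono ((H C (n + k)).map T.mor₂) :=
      (DerivedCategory.HomologySequence.mono_homologyMap_mor₂_iff T hT _).2
        ((h₁ _ (by omega)).eq_of_src _ _)
    haveI : Epi ((H C (n + k)).map T.mor₂) :=
      (DerivedCategory.HomologySequence.epi_homologyMap_mor₂_iff T hT _ _ rfl).2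
        ((h₁ _ (by omega)).eq_of_tgt _ _)
    have hT₂ : IsIso ((H C (n + k)).map T.mor₂) := isIso_of_mono_of_epi _
    haveI : T.obj₃.IsGE (n + k) := (DerivedCategory.isGE_iff _ _).2 fun i hi => h₃ i (by omega)
    haveI : T.obj₃.IsLE (n + k) := (DerivedCategory.isLE_iff _ _).2 fun i hi => h₃ i (by omega)
    obtain ⟨Y, ⟨eY⟩⟩ := DerivedCategory.exists_iso_singleFunctor_obj_of_isGE_of_isLE T.obj₃ (n + k)
    refine (dpc_mid hsum hqs hql n T hT (ih T.obj₁ (fun i hi => h₁ i (by omega)) fun i hi => ?_) ?_).of_iso e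
    · by_cases hi' : i ≤ p
      · haveI := hiso i hi'
        exact (hfp i hi).of_iso ((DerivedCategory.singleFunctor C 0).mapIso
          ((H C i).mapIso e.symm ≪≫ (asIso ((H C i).map T.mor₁)).symm))
      · exact dpc_of_acyclic _ fun j hj => by
          by_cases hj' : j = 0
          · subst hj'
            exact (h₁ i (by omega)).of_iso (hSingle 0 _)
          · exact isZero_H_single 0 j hj' _
    · refine ((DPC.single (j := n + k) (by omega) (hfp (n + k) (by omega))).of_iso ?_).of_iso eY.symm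
      exact (DerivedCategory.singleFunctor C (n + k)).mapIso ((H C (n + k)).mapIso e.symm ≪≫
        @asIso _ _ _ _ ((H C (n + k)).map T.mor₂) hT₂ ≪≫ (H C (n + k)).mapIso eY ≪≫ hSingle _ Y)

/-- Descending along the terms. -/
theorem dpc_of_termwise (hqs : PCoh.IsQuasiStableUnderKernels P) (hql : PCoh.IsQuasiLiftable P)
    (n : ℤ) : ∀ (k : ℕ) (F : CochainComplex C ℤ), (∀ i, n + k ≤ i → IsZero (F.X i)) →
    (∀ i, n ≤ i → DPC P (n - i) ((DerivedCategory.singleFunctor C 0).obj (F.X i))) →
    DPC P n (DerivedCategory.Q.obj F) := by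
  intro k
  induction k with
  | zero =>
    exact fun F hF _ => dpc_of_acyclic n fun i hi =>
      (isZero_H_iff F i).2 (isZero_homology_of_isZero _ _ (hF i (by omega)))
  | succ k ih =>
    intro F hF hfp
    let j : ℤ := n + k
    let ι : (HomologicalComplex.single C (ComplexShape.up ℤ) j).obj (F.X j) ⟶ F :=
      HomologicalComplex.mkHomFromSingle (𝟙 _) fun i hi => (hF i (by simp [j] at hi; omega)).eq_of_tgt _ _
    haveI hmono : ∀ i, Mono (ι.f i) := fun i => by
      by_cases h : i = j
      · subst h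
        simp only [ι, HomologicalComplex.mkHomFromSingle_f]
        infer_instance
      · exact ⟨fun _ _ _ => (isZero_single_obj_X _ _ _ _ h).eq_of_tgt _ _⟩
    haveI : Mono ι := HomologicalComplex.mono_of_mono_f ι hmono
    let S : ShortComplex (CochainComplex C ℤ) :=
      ShortComplex.mk ι (cokernel.π ι) (cokernel.condition ι)
    have hS : S.ShortExact :=
      { exact := ShortComplex.exact_of_g_is_cokernel _ (cokernelIsCokernel _) }
    have hX : ∀ i, i ≠ j → Nonempty (S.X₃.X i ≅ F.X i) := fun i hi =>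
      ⟨PreservesCokernel.iso (HomologicalComplex.eval C (ComplexShape.up ℤ) i) ι ≪≫
        cokernelIsoOfEq ((isZero_single_obj_X _ j (F.X j) i hi).eq_of_src (ι.f i) 0) ≪≫
        cokernelZeroIsoTarget⟩
    have hXj : IsZero (S.X₃.X j) := by
      haveI : Epi (ι.f j) := by
        simp only [ι, HomologicalComplex.mkHomFromSingle_f]
        infer_instance
      exact IsZero.of_iso (isZero_cokernel_of_epi (ι.f j))
        (PreservesCokernel.iso (HomologicalComplex.eval C (ComplexShape.up ℤ) j) ι)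
    refine dpc_mid hsum hqs hql n _ (DerivedCategory.triangleOfSES_distinguished hS) ?_
      (ih S.X₃ (fun i hi => ?_) fun i hi => ?_)
    · exact (DPC.single (j := j) (by omega) (hfp j (by omega))).of_iso (singleQ j _)
    · by_cases h : i = j
      · subst h
        exact hXj
      · obtain ⟨eX⟩ := hX i h
        exact (hF i (by omega)).of_iso eX
    · by_cases h : i = j
      · subst h
        exact dpc_of_acyclic _ fun l _ => (H C l).map_isZero
          ((DerivedCategory.singleFunctor C 0).map_isZero hXj)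
      · obtain ⟨eX⟩ := hX i h
        exact (hfp i hi).of_iso ((DerivedCategory.singleFunctor C 0).mapIso eX.symm)

/-- Direct summands. -/
theorem dpc_of_biprod (hqs : PCoh.IsQuasiStableUnderKernels P) (hql : PCoh.IsQuasiLiftable P) :
    ∀ (k : ℕ) (n : ℤ) (X Y : DerivedCategory C), DPC P n (X ⊞ Y) →
    (∀ i, n + k ≤ i → IsZero ((H C i).obj X) ∧ IsZero ((H C i).obj Y)) →
    DPC P n X ∧ DPC P n Y := by
  intro k
  induction k with
  | zero =>
    exact fun n X Y _ hz => ⟨dpc_of_acyclic n fun i hi => (hz i (by omega)).1,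
      dpc_of_acyclic n fun i hi => (hz i (by omega)).2⟩
  | succ k ih =>
    intro n X Y h hz
    obtain ⟨hX, hY⟩ := ih (n + 1) X Y (h.of_le (by omega)) fun i hi => hz i (by omega)
    exact ⟨dpc_cone hsum hqs hql n _ (binaryBiproductTriangle_distinguished Y X) hY
        (h.of_iso (biprod.braiding X Y)),
      dpc_cone hsum hqs hql n _ (binaryBiproductTriangle_distinguished X Y) hX h⟩

end Groth.Agent.H02CA.PC
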