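import Groth.Agent.H02CA.PC.Tower
import Mathlib.Algebra.Homology.DerivedCategory.KProjective
import Mathlib.CategoryTheory.Preadditive.Projective.Basic

/-!
# Perfect complexes
-/

set_option autoImplicit false
set_option linter.style.haveILetI false

universe w v u

open CategoryTheory CategoryTheory.Category CategoryTheory.Limits CochainComplex HomologicalComplex Pretriangulated

namespace Groth.Agent.H02CA.PC

variable {C : Type u} [Category.{v} C] [Abelian C] {P : ObjectProperty C}
  [P.IsClosedUnderIsomorphisms]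

section

variable (hlift : ∀ (E F : C) (u : E ⟶ F), Epi u → P F → IsSplitEpi u)
include hlift

omit [P.IsClosedUnderIsomorphisms] in
lemma projective_of_mem {X : C} (hX : P X) : Projective X where
  factors {A B} f e he := by
    haveI := hlift (pullback f e) X (pullback.fst f e) inferInstance hX
    exact ⟨section_ (pullback.fst f e) ≫ pullback.snd f e, by
      rw [assoc, ← pullback.condition, ← assoc, IsSplitEpi.id, id_comp]⟩

omit [P.IsClosedUnderIsomorphisms] in
lemma hql_of_lift : PCoh.IsQuasiLiftable P := fun E F u hu hF => by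
  haveI := hlift E F u hu hF
  refine ⟨F, section_ u, hF, ?_⟩
  rw [IsSplitEpi.id]
  infer_instance

omit [P.IsClosedUnderIsomorphisms] in
lemma isKProjective_of_mem {E : CochainComplex C ℤ} (b : ℤ) (hb : ∀ i, b < i → IsZero (E.X i))
    (hP : ∀ i, P (E.X i)) : E.IsKProjective := by
  haveI : E.IsStrictlyLE b := (isStrictlyLE_iff E b).2 hb
  haveI : ∀ i, Projective (E.X i) := fun i => projective_of_mem hlift (hP i)
  exact isKProjective_of_projective E b

omit [P.IsClosedUnderIsomorphisms] in
lemma exists_chainMap [HasDerivedCategory.{w} C] {E F : CochainComplex C ℤ} (b : ℤ)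
    (hb : ∀ i, b < i → IsZero (E.X i)) (hP : ∀ i, P (E.X i))
    (α : DerivedCategory.Q.obj E ⟶ DerivedCategory.Q.obj F) :
    ∃ f : E ⟶ F, DerivedCategory.Q.map f = α := by
  haveI := isKProjective_of_mem hlift b hb hP
  let e := DerivedCategory.quotientCompQhIso C
  obtain ⟨g, hg⟩ := (CochainComplex.IsKProjective.Qh_map_bijective E
    ((HomotopyCategory.quotient C _).obj F)).2 (e.hom.app E ≫ α ≫ e.inv.app F)
  obtain ⟨f, rfl⟩ := (HomotopyCategory.quotient _ _).map_surjective g
  refine ⟨f, ?_⟩
  rw [← cancel_epi (e.hom.app E)]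
  exact ((e.hom.naturality f).symm.trans (by rw [Functor.comp_map, hg]; simp))

end

section

variable [P.ContainsZero] (hst : ∀ (E F : C) (u : E ⟶ F), Epi u → P E → P F → P (kernel u))
include hst

/-- Cycles of an exact complex with terms in the class. -/
lemma cycles_mem {K : CochainComplex C ℤ} (b : ℤ) (hb : ∀ i, b < i → IsZero (K.X i)) :
    ∀ (d : ℕ) (j : ℤ), b < j + d → (∀ i, j ≤ i → P (K.X i)) →
      (∀ i, j < i → IsZero (K.homology i)) → P (kernel (K.d j (j + 1))) := by
  intro d
  induction d with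
  | zero =>
    exact fun j hj _ _ => P.prop_of_isZero (IsZero.of_mono (kernel.ι _) (hb j (by omega)))
  | succ d ih =>
    intro j hj hP hex
    let g : K.X j ⟶ kernel (K.d (j + 1) (j + 1 + 1)) :=
      kernel.lift _ (K.d j (j + 1)) (K.d_comp_d _ _ _)
    have hex' : (K.sc' j (j + 1) (j + 1 + 1)).Exact := by
      rw [← HomologicalComplex.exactAt_iff' _ _ _ _ (by simp) (by simp),
        HomologicalComplex.exactAt_iff_isZero_homology]
      exact hex _ (by omega)
    have hg : Epi g := ShortComplex.Exact.epi_kernelLift hex'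
    refine P.prop_of_iso ?_ (hst _ _ g hg (hP j le_rfl)
      (ih (j + 1) (by omega) (fun i hi => hP i (by omega)) fun i hi => hex i (by omega)))
    exact (kernelCompMono g (kernel.ι _)).symm ≪≫ kernelIsoOfEq (kernel.lift_ι _ _ _)

lemma hqs_of_stable : PCoh.IsQuasiStableUnderKernels P := by
  intro K hK hfin hP
  obtain ⟨N, hN⟩ := hfin
  have key : ∀ (d j : ℕ), 1 ≤ j → N < j + d → P (kernel (K.d j (j + 1))) := by
    intro d
    induction d with
    | zero =>
      exact fun j _ hj => P.prop_of_isZero (IsZero.of_mono (kernel.ι _) (hN j (by omega)))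
    | succ d ih =>
      intro j hj hj'
      let g : K.X j ⟶ kernel (K.d (j + 1) (j + 1 + 1)) :=
        kernel.lift _ (K.d j (j + 1)) (K.d_comp_d _ _ _)
      have hg : Epi g := ShortComplex.Exact.epi_kernelLift
        ((HomologicalComplex.exactAt_iff' K j (j + 1) (j + 1 + 1) (by simp) (by simp)).1 (hK (j + 1)))
      refine P.prop_of_iso ?_ (hst _ _ g hg (hP j hj) (ih (j + 1) (by omega) (by omega)))
      exact (kernelCompMono g (kernel.ι _)).symm ≪≫ kernelIsoOfEq (kernel.lift_ι _ _ _)
  let l : K.X 0 ⟶ kernel (K.d 1 2) := kernel.lift _ (K.d 0 1) (K.d_comp_d _ _ _)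
  haveI : Epi l := ShortComplex.Exact.epi_kernelLift
    ((HomologicalComplex.exactAt_iff' K 0 1 2 (by simp) (by simp)).1 (hK 1))
  haveI : Mono (K.d 0 1) :=
    (ShortComplex.exact_iff_mono _ (K.shape 0 0 (by simp))).1
      ((HomologicalComplex.exactAt_iff' K 0 0 1 (by simp) (by simp)).1 (hK 0))
  haveI : Mono l := mono_of_mono_fac (kernel.lift_ι (K.d 1 2) (K.d 0 1) (K.d_comp_d _ _ _))
  haveI : IsIso l := isIso_of_mono_of_epi _
  exact ft_iso (asIso l).symm (ft_of_mem (key N 1 le_rfl (by omega)))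

end

variable [P.ContainsZero] [HasDerivedCategory.{w} C]

/-- The first term of a complex of perfect amplitude. -/
theorem mem_first (hsum : ∀ X Y : C, P X → P Y → P (X ⨯ Y))
    (hlift : ∀ (E F : C) (u : E ⟶ F), Epi u → P F → IsSplitEpi u)
    (hst : ∀ (E F : C) (u : E ⟶ F), Epi u → P E → P F → P (kernel u))
    (a b : ℤ) {F : CochainComplex C ℤ} (hvan : ∀ i, i < a ∨ b < i → IsZero (F.X i))
    (hP : ∀ i, a < i → P (F.X i)) {E : CochainComplex C ℤ} (hEP : ∀ i, P (E.X i))
    (hE : ∀ i, i < a ∨ b < i → IsZero (E.X i))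
    (e : DerivedCategory.Q.obj E ≅ DerivedCategory.Q.obj F) : P (F.X a) := by
  obtain ⟨f, hf⟩ := exists_chainMap hlift b (fun i hi => hE i (Or.inr hi)) hEP e.hom
  let M := CochainComplex.mappingCone f
  have hac : ∀ i, IsZero (M.homology i) := fun i => by
    refine (dge_Q_iff f i).1 ?_ i le_rfl
    rw [hf]
    exact DGe.of_isIso i _
  have hM : ∀ i, a < i → P (M.X i) := fun i hi => mem_cone hsum f i (hEP _) (hP i hi)
  have hMb : ∀ i, b < i → IsZero (M.X i) := fun i hi =>
    isZero_cone f i (hE _ (Or.inr (by omega))) (hvan _ (Or.inr hi))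
  let g : M.X a ⟶ kernel (M.d (a + 1) (a + 1 + 1)) :=
    kernel.lift _ (M.d a (a + 1)) (M.d_comp_d _ _ _)
  have hex : ∀ p q r : ℤ, p + 1 = q → q + 1 = r → (M.sc' p q r).Exact := fun p q r hpq hqr => by
    rw [← HomologicalComplex.exactAt_iff' _ _ _ _ (by simp; omega) (by simp; omega),
      HomologicalComplex.exactAt_iff_isZero_homology]
    exact hac q
  have hgk : P (kernel (M.d (a + 1) (a + 1 + 1))) :=
    cycles_mem hst b hMb (b - a).toNat (a + 1) (by omega) (fun i hi => hM i (by omega)) fun i _ => hac i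
  haveI : Epi g := ShortComplex.Exact.epi_kernelLift (hex a (a + 1) (a + 1 + 1) rfl rfl)
  haveI : Projective (kernel (M.d (a + 1) (a + 1 + 1))) := projective_of_mem hlift hgk
  haveI : Mono (M.d (a - 1) a) :=
    (hex (a - 2) (a - 1) a (by omega) (by omega)).mono_g
      ((isZero_cone f _ (hE _ (Or.inl (by omega))) (hvan _ (Or.inl (by omega)))).eq_of_src _ _)
  let S : ShortComplex C := ShortComplex.mk (M.d (a - 1) a) g (by
    rw [← cancel_mono (kernel.ι (M.d (a + 1) (a + 1 + 1)))]
    simp [g])
  have hS : S.ShortExact :=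
    { exact := by
        let φ : S ⟶ M.sc' (a - 1) a (a + 1) :=
          { τ₁ := 𝟙 _
            τ₂ := 𝟙 _
            τ₃ := kernel.ι _
            comm₁₂ := (id_comp _).trans (comp_id _).symm
            comm₂₃ := (id_comp _).trans (kernel.lift_ι _ _ _).symm }
        haveI : Epi φ.τ₁ := inferInstanceAs (Epi (𝟙 _))
        haveI : IsIso φ.τ₂ := inferInstanceAs (IsIso (𝟙 _))
        haveI : Mono φ.τ₃ := inferInstanceAs (Mono (kernel.ι _))
        exact (ShortComplex.exact_iff_of_epi_of_isIso_of_mono φ).2 (hex _ _ _ (by omega) rfl)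
      mono_f := inferInstanceAs (Mono (M.d (a - 1) a))
      epi_g := inferInstanceAs (Epi g) }
  haveI : Projective S.X₃ := inferInstanceAs (Projective (kernel (M.d (a + 1) (a + 1 + 1))))
  have h₁ : P (M.X (a - 1)) :=
    mem_cone hsum f _ (hEP _) (P.prop_of_isZero (hvan _ (Or.inl (by omega))))
  have hMa : P (E.X (a + 1) ⊞ F.X a) :=
    P.prop_of_iso (HomologicalComplex.homotopyCofiber.XIsoBiprod f a (a + 1) rfl)
      (P.prop_of_iso (hS.splittingOfProjective.isoBinaryBiproduct).symm (mem_biprod hsum h₁ hgk))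
  exact P.prop_of_iso kernelBiprodFstIso
    (hst _ _ (biprod.fst : E.X (a + 1) ⊞ F.X a ⟶ _) inferInstance hMa (hEP _))

end Groth.Agent.H02CA.PC
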