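import Groth.Agent.H02CA.PC.Gen

/-!
# Intermediate classes
-/

set_option autoImplicit false
set_option linter.style.haveILetI false

universe w v u

open CategoryTheory CategoryTheory.Category CategoryTheory.Limits CochainComplex HomologicalComplex Pretriangulated

namespace Groth.Agent.H02CA.PC

variable {C : Type u} [Category.{v} C] [Abelian C] [HasDerivedCategory.{w} C] {P : ObjectProperty C}
variable [P.IsClosedUnderIsomorphisms] [P.ContainsZero]

/-- Objects which are pseudo-coherent in degree zero are of finite type. -/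
lemma ft_of_dpc_single (hqs : PCoh.IsQuasiStableUnderKernels P) {X : C} {n : ℤ} (hn : n ≤ 0)
    (h : DPC P n ((DerivedCategory.singleFunctor C 0).obj X)) : PCoh.IsOfFiniteType P X :=
  ft_iso (hSingle 0 X) ((h.of_le hn).ft hqs fun i hi => isZero_H_single 0 i (by omega) X)

/-- The first object of an exact sequence with pseudo-coherent terms. -/
theorem dpc_head (hsum : ∀ X Y : C, P X → P Y → P (X ⨯ Y))
    (hqs : PCoh.IsQuasiStableUnderKernels P) (hql : PCoh.IsQuasiLiftable P)
    (K : CochainComplex C ℕ) (hK : ∀ i, K.ExactAt i) (N : ℕ) (hN : ∀ i, N < i → IsZero (K.X i))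
    (hP : ∀ i, 1 ≤ i → PCoh.IsPC P ((DerivedCategory.singleFunctor C 0).obj (K.X i))) (n : ℤ) :
    DPC P n ((DerivedCategory.singleFunctor C 0).obj (K.X 0)) := by
  have key : ∀ (d j : ℕ), 1 ≤ j → N + 1 ≤ j + d → ∀ m : ℤ,
      DPC P m ((DerivedCategory.singleFunctor C 0).obj (kernel (K.d j (j + 1)))) := by
    intro d
    induction d with
    | zero =>
      intro j hj hjN m
      exact dpc_of_acyclic m fun i _ => (H C i).map_isZero ((DerivedCategory.singleFunctor C 0).map_isZero
        (IsZero.of_mono (kernel.ι (K.d j (j + 1))) (hN j (by omega))))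
    | succ d ih =>
      intro j hj hjN m
      let f : kernel (K.d j (j + 1)) ⟶ K.X j := kernel.ι _
      let g : K.X j ⟶ kernel (K.d (j + 1) (j + 1 + 1)) :=
        kernel.lift _ (K.d j (j + 1)) (K.d_comp_d _ _ _)
      haveI : Epi g := ShortComplex.Exact.epi_kernelLift
        ((HomologicalComplex.exactAt_iff' K j (j + 1) (j + 1 + 1) (by simp) (by simp)).1 (hK (j + 1)))
      let S : ShortComplex C := ShortComplex.mk f g (by
        rw [← cancel_mono (kernel.ι (K.d (j + 1) (j + 1 + 1)))]
        simp [f, g])
      have hS : S.ShortExact :=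
        { exact := by
            have h₀ : (ShortComplex.mk (kernel.ι (K.d j (j + 1))) _ (kernel.condition _)).Exact :=
              ShortComplex.exact_of_f_is_kernel _ (kernelIsKernel _)
            let φ : S ⟶ ShortComplex.mk (kernel.ι (K.d j (j + 1))) _ (kernel.condition _) :=
              { τ₁ := 𝟙 _
                τ₂ := 𝟙 _
                τ₃ := kernel.ι (K.d (j + 1) (j + 1 + 1))
                comm₁₂ := by simp [S, f]
                comm₂₃ := by simp [S, g] }
            haveI : Epi φ.τ₁ := inferInstanceAs (Epi (𝟙 _))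
            haveI : IsIso φ.τ₂ := inferInstanceAs (IsIso (𝟙 _))
            haveI : Mono φ.τ₃ := inferInstanceAs (Mono (kernel.ι _))
            exact (ShortComplex.exact_iff_of_epi_of_isIso_of_mono φ).2 h₀
          mono_f := inferInstanceAs (Mono (kernel.ι _))
          epi_g := inferInstanceAs (Epi g) }
      exact (dpc_left hsum hqs hql (m - 1) hS.singleTriangle hS.singleTriangle_distinguished
        ((hP j hj (m - 1 + 1))) (ih (j + 1) (by omega) (by omega) (m - 1))).of_le (by omega)
  let l : K.X 0 ⟶ kernel (K.d 1 2) := kernel.lift _ (K.d 0 1) (K.d_comp_d _ _ _)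
  haveI : Epi l := ShortComplex.Exact.epi_kernelLift
    ((HomologicalComplex.exactAt_iff' K 0 1 2 (by simp) (by simp)).1 (hK 1))
  haveI : Mono (K.d 0 1) := by
    have h := (HomologicalComplex.exactAt_iff' K 0 0 1 (by simp) (by simp)).1 (hK 0)
    exact (ShortComplex.exact_iff_mono _ (K.shape 0 0 (by simp))).1 h
  haveI : Mono l := mono_of_mono_fac (kernel.lift_ι (K.d 1 2) (K.d 0 1) (K.d_comp_d _ _ _))
  haveI : IsIso l := isIso_of_mono_of_epi _
  exact (key N 1 le_rfl (by omega) n).of_iso ((DerivedCategory.singleFunctor C 0).mapIso (asIso l).symm)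

end Groth.Agent.H02CA.PC
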