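import Groth.Agent.H02CA.PC.Perf
import Groth.Agent.H02CA.PC.Sub

/-!
# Perfect complexes: truncations and summands
-/

set_option autoImplicit false
set_option linter.style.haveILetI false

universe w v u

open CategoryTheory CategoryTheory.Category CategoryTheory.Limits CochainComplex HomologicalComplex Pretriangulated

namespace Groth.Agent.H02CA.PC

variable {C : Type u} [Category.{v} C] [Abelian C] {P : ObjectProperty C}
  [P.IsClosedUnderIsomorphisms] [P.ContainsZero] [HasDerivedCategory.{w} C]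

/-- Perfect amplitude in `[a, b]`. -/
abbrev Amp (P : ObjectProperty C) (a b : ℤ) (X : DerivedCategory C) : Prop :=
  ∃ E : CochainComplex C ℤ, (∀ i, P (E.X i)) ∧ (∀ i, i < a ∨ b < i → IsZero (E.X i)) ∧
    Nonempty (DerivedCategory.Q.obj E ≅ X)

/-- Cones of perfect objects. -/
theorem perfect_cone (hsum : ∀ X Y : C, P X → P Y → P (X ⨯ Y))
    (hlift : ∀ (E F : C) (u : E ⟶ F), Epi u → P F → IsSplitEpi u)
    (T : Triangle (DerivedCategory C)) (hT : T ∈ distTriang _) {a b a' b' : ℤ}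
    (h₁ : Amp P a b T.obj₁) (h₂ : Amp P a' b' T.obj₂) :
    Amp P (min (a - 1) a') (max b b') T.obj₃ := by
  obtain ⟨E, hE, hzE, ⟨e₁⟩⟩ := h₁
  obtain ⟨F, hF, hzF, ⟨e₂⟩⟩ := h₂
  obtain ⟨f, hf⟩ := exists_chainMap hlift b (fun i hi => hzE i (Or.inr hi)) hE
    (e₁.hom ≫ T.mor₁ ≫ e₂.inv)
  refine ⟨CochainComplex.mappingCone f, fun i => mem_cone hsum f i (hE _) (hF _), fun i hi =>
    isZero_cone f i (hzE _ (by omega)) (hzF _ (by omega)), ⟨?_⟩⟩
  exact Triangle.π₃.mapIso (isoTriangleOfIso₁₂ _ T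
    (DerivedCategory.mappingCone_triangle_distinguished f) hT e₁ e₂ (by
      show DerivedCategory.Q.map f ≫ e₂.hom = e₁.hom ≫ T.mor₁
      simp [hf]))

/-- Truncation of perfect complexes. -/
theorem perfect_truncated
    (hst : ∀ (E F : C) (u : E ⟶ F), Epi u → P E → P F → P (kernel u))
    (a b c : ℤ) (hab : a ≤ b) {F : CochainComplex C ℤ} (hP : ∀ i, P (F.X i))
    (hvan : ∀ i, i < a ∨ c < i → IsZero (F.X i)) (hcoh : ∀ i, b < i → IsZero (F.homology i)) :
    Amp P a (min b c) (DerivedCategory.Q.obj F) := by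
  haveI : QuasiIso (F.ιTruncLE b) := by
    rw [quasiIso_iff]
    intro j
    by_cases h : j ≤ b
    · exact CochainComplex.quasiIsoAt_ιTruncLE F _ _ h
    · rw [quasiIsoAt_iff_isIso_homologyMap]
      exact isIso_of_isZero (isZero_homology_of_isZero _ _ ((F.truncLE b).isZero_of_isStrictlyLE b j (by omega)))
        (hcoh j (by omega)) _
  let eb : (F.truncLE b).X b ≅ kernel (F.d b (b + 1)) := F.truncLEXIsoCycles b ≪≫
    IsLimit.conePointUniqueUpToIso (F.cyclesIsKernel b (b + 1) (by simp)) (limit.isLimit _)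
  refine ⟨F.truncLE b, fun i => ?_, fun i hi => ?_, ⟨asIso (DerivedCategory.Q.map (F.ιTruncLE b))⟩⟩
  · rcases lt_trichotomy i b with h | rfl | h
    · exact P.prop_of_iso (F.truncLEXIso b i h).symm (hP i)
    · exact P.prop_of_iso eb.symm
        (cycles_mem hst c (fun j hj => hvan j (Or.inr hj)) (c + 1 - i).toNat i (by omega)
          (fun j _ => hP j) (fun j hj => hcoh j hj))
    · exact P.prop_of_isZero ((F.truncLE b).isZero_of_isStrictlyLE b i h)
  · by_cases h : b < i
    · exact (F.truncLE b).isZero_of_isStrictlyLE b i h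
    · rcases eq_or_lt_of_le (not_lt.1 h) with rfl | h'
      · exact IsZero.of_mono (eb.hom ≫ kernel.ι _) (hvan i (by omega))
      · exact (hvan i (by omega)).of_iso (F.truncLEXIso b i h')

omit [P.ContainsZero] in
/-- Sums of amplitudes. -/
theorem amp_biprod (hsum : ∀ X Y : C, P X → P Y → P (X ⨯ Y)) {a b : ℤ} {X Y : DerivedCategory C}
    [HasBinaryBiproduct X Y] (hX : Amp P a b X) (hY : Amp P a b Y) : Amp P a b (X ⊞ Y) := by
  obtain ⟨E, hE, hzE, ⟨e⟩⟩ := hX
  obtain ⟨E', hE', hzE', ⟨e'⟩⟩ := hY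
  have ev := fun i => (HomologicalComplex.eval C (ComplexShape.up ℤ) i).mapBiprod E E'
  haveI := preservesBinaryBiproducts_of_preservesBiproducts (DerivedCategory.Q (C := C))
  refine ⟨E ⊞ E', fun i => P.prop_of_iso (ev i).symm (mem_biprod hsum (hE i) (hE' i)), fun i hi =>
    (ev i).isZero_iff.2 ((biprod_isZero_iff _ _).2 ⟨hzE i hi, hzE' i hi⟩),
    ⟨DerivedCategory.Q.mapBiprod E E' ≪≫ biprod.mapIso e e'⟩⟩

/-- Summands of amplitudes. -/
theorem amp_of_biprod (hsum : ∀ X Y : C, P X → P Y → P (X ⨯ Y))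
    (hlift : ∀ (E F : C) (u : E ⟶ F), Epi u → P F → IsSplitEpi u)
    (hst : ∀ (E F : C) (u : E ⟶ F), Epi u → P E → P F → P (kernel u))
    (hsummand : ∀ (E' E'' : C) [HasBinaryBiproduct E' E''], P (E' ⊞ E'') → P E' ∧ P E'')
    {a b : ℤ} {X Y : DerivedCategory C} (h : Amp P a b (X ⊞ Y)) : Amp P a b X ∧ Amp P a b Y := by
  have hqs := hqs_of_stable hst
  have hql := hql_of_lift hlift
  obtain ⟨E, hEP, hE, ⟨e⟩⟩ := h
  have hz : ∀ i, i < a ∨ b < i → IsZero ((H C i).obj X) ∧ IsZero ((H C i).obj Y) := fun i hi => by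
    have hXY : IsZero ((H C i).obj (X ⊞ Y)) :=
      ((H C i).mapIso e).isZero_iff.1 ((isZero_H_iff E i).2 (isZero_homology_of_isZero _ _ (hE i hi)))
    exact ⟨IsZero.of_mono ((H C i).map (biprod.inl : X ⟶ X ⊞ Y)) hXY,
      IsZero.of_mono ((H C i).map (biprod.inr : Y ⟶ X ⊞ Y)) hXY⟩
  have hpc : ∀ m, DPC P m X ∧ DPC P m Y := fun m =>
    dpc_of_biprod hsum hqs hql (b + 1 - m).toNat m X Y
      ⟨E, ⟨⟨b, fun i hi => hE i (Or.inr hi)⟩, fun i _ => hEP i⟩, ⟨e⟩⟩ fun i hi => hz i (by omega)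
  obtain ⟨X₀, ⟨eX₀⟩⟩ := exists_rep X
  obtain ⟨Y₀, ⟨eY₀⟩⟩ := exists_rep Y
  obtain ⟨A, sA, hA, hqA, hzA⟩ := resolveAll hsum hqs hql (b + 1)
    (fun m => (hpc m).1.of_iso eX₀.symm) fun i hi => isZero_homology_rep eX₀ i (hz i (by omega)).1
  obtain ⟨B, sB, hB, hqB, hzB⟩ := resolveAll hsum hqs hql (b + 1)
    (fun m => (hpc m).2.of_iso eY₀.symm) fun i hi => isZero_homology_rep eY₀ i (hz i (by omega)).2
  haveI := hqA
  haveI := hqB
  let eA : DerivedCategory.Q.obj A ≅ X := asIso (DerivedCategory.Q.map sA) ≪≫ eX₀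
  let eB : DerivedCategory.Q.obj B ≅ Y := asIso (DerivedCategory.Q.map sB) ≪≫ eY₀
  have hq : ∀ (K : CochainComplex C ℤ), (∀ i, i < a → IsZero (K.homology i)) → QuasiIso (K.πTruncGE a) :=
    fun K hK => by
      rw [quasiIso_iff]
      intro j
      by_cases h : a ≤ j
      · exact CochainComplex.quasiIsoAt_πTruncGE K _ _ h
      · rw [quasiIsoAt_iff_isIso_homologyMap]
        exact isIso_of_isZero (hK j (by omega))
          (isZero_homology_of_isZero _ _ ((K.truncGE a).isZero_of_isStrictlyGE a j (by omega))) _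
  have ev := fun i => (HomologicalComplex.eval C (ComplexShape.up ℤ) i).mapBiprod A B
  let K : CochainComplex C ℤ := A ⊞ B
  haveI := preservesBinaryBiproducts_of_preservesBiproducts (DerivedCategory.Q (C := C))
  let eK : DerivedCategory.Q.obj K ≅ DerivedCategory.Q.obj E :=
    DerivedCategory.Q.mapBiprod A B ≪≫ biprod.mapIso eA eB ≪≫ e.symm
  haveI := hq K fun i hi => isZero_homology_rep eK i
    ((isZero_H_iff E i).2 (isZero_homology_of_isZero _ _ (hE i (Or.inl hi))))
  have hKtop : ∀ i, b < i → IsZero (K.X i) := fun i hi =>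
    (ev i).isZero_iff.2 ((biprod_isZero_iff _ _).2 ⟨hzA i (by omega), hzB i (by omega)⟩)
  have htop : ∀ (M : CochainComplex C ℤ), (∀ i, b < i → IsZero (M.X i)) → ∀ i, b < i →
      IsZero ((M.truncGE a).X i) := fun M hM i hi => by
    rcases lt_trichotomy i a with h | rfl | h
    · exact (M.truncGE a).isZero_of_isStrictlyGE a i h
    · exact IsZero.of_epi (M.pOpcycles i ≫ (M.truncGEXIsoOpcycles i).inv) (hM i hi)
    · exact (hM i hi).of_iso (M.truncGEXIso a i h)
  have hK : P ((K.truncGE a).X a) :=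
    mem_first hsum hlift hst a b (fun i hi => hi.elim
        (fun h => (K.truncGE a).isZero_of_isStrictlyGE a i h) (htop K hKtop i))
      (fun i hi => P.prop_of_iso (K.truncGEXIso a i hi).symm
        (P.prop_of_iso (ev i).symm (mem_biprod hsum (hA.2 i) (hB.2 i)))) hEP hE
      (eK.symm ≪≫ asIso (DerivedCategory.Q.map (K.πTruncGE a)))
  haveI : (HomologicalComplex.opcyclesFunctor C (ComplexShape.up ℤ) a).Additive := by
    exact ⟨fun {X Y f g} => by
      show (HomologicalComplex.opcyclesMap (f + g) a : X.opcycles a ⟶ Y.opcycles a) =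
        HomologicalComplex.opcyclesMap f a + HomologicalComplex.opcyclesMap g a
      rw [← cancel_epi (X.pOpcycles a)]
      simp [Preadditive.add_comp]⟩
  haveI := preservesBinaryBiproducts_of_preservesBiproducts
    (HomologicalComplex.opcyclesFunctor C (ComplexShape.up ℤ) a)
  have hop : P (A.opcycles a) ∧ P (B.opcycles a) :=
    hsummand _ _ (P.prop_of_iso (K.truncGEXIsoOpcycles a ≪≫
      (HomologicalComplex.opcyclesFunctor C (ComplexShape.up ℤ) a).mapBiprod A B) hK)
  have key : ∀ (M : CochainComplex C ℤ) (Z : DerivedCategory C), (DerivedCategory.Q.obj M ≅ Z) →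
      (∀ i, P (M.X i)) → (∀ i, b < i → IsZero (M.X i)) → (∀ i, i < a → IsZero ((H C i).obj Z)) →
      P (M.opcycles a) → Amp P a b Z := fun M Z eM hM hMb hZ hMa => by
    haveI := hq M fun i hi => isZero_homology_rep eM i (hZ i hi)
    refine ⟨M.truncGE a, fun i => ?_, fun i hi =>
      hi.elim (fun h => (M.truncGE a).isZero_of_isStrictlyGE a i h) (htop M hMb i),
      ⟨(asIso (DerivedCategory.Q.map (M.πTruncGE a))).symm ≪≫ eM⟩⟩
    rcases lt_trichotomy i a with h | rfl | h
    · exact P.prop_of_isZero ((M.truncGE a).isZero_of_isStrictlyGE a i h)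
    · exact P.prop_of_iso (M.truncGEXIsoOpcycles i).symm hMa
    · exact P.prop_of_iso (M.truncGEXIso a i h).symm (hM i)
  exact ⟨key A X eA hA.2 (fun i hi => hzA i (by omega)) (fun i hi => (hz i (Or.inl hi)).1) hop.1,
    key B Y eB hB.2 (fun i hi => hzB i (by omega)) (fun i hi => (hz i (Or.inl hi)).2) hop.2⟩

end Groth.Agent.H02CA.PC
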