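import Groth.Agent.H02CA.PC.Sub
import Mathlib.Algebra.Homology.Augment

/-!
# Finite presentations
-/

set_option autoImplicit false
set_option linter.style.haveILetI false

universe w v u

open CategoryTheory CategoryTheory.Category CategoryTheory.Limits HomologicalComplex Pretriangulated

namespace Groth.Agent.H02CA.PC

variable {C : Type u} [Category.{v} C] [Abelian C] {P : ObjectProperty C}

lemma exactAt_iff_down (K : ChainComplex C ℕ) (j : ℕ) :
    K.ExactAt j ↔ (K.sc' (j + 1) j (j - 1)).Exact :=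
  HomologicalComplex.exactAt_iff' K _ _ _ (by simp) (by cases j <;> simp)

variable [HasDerivedCategory.{w} C] [P.IsClosedUnderIsomorphisms] [P.ContainsZero]

theorem dpc_of_res (hsum : ∀ X Y : C, P X → P Y → P (X ⨯ Y))
    (hqs : PCoh.IsQuasiStableUnderKernels P) (hql : PCoh.IsQuasiLiftable P)
    (K : ChainComplex C ℕ) (n : ℕ) (hK : ∀ j, j ≤ n → K.ExactAt j)
    (hP : ∀ j, 1 ≤ j → j ≤ n + 1 → P (K.X j)) :
    DPC P (-(n : ℤ)) ((DerivedCategory.singleFunctor C 0).obj (K.X 0)) := by
  have key : ∀ (d j : ℕ), j + d = n →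
      DPC P (-(d : ℤ)) ((DerivedCategory.singleFunctor C 0).obj (kernel (K.d j (j - 1)))) := by
    intro d
    induction d with
    | zero =>
      intro j hj
      haveI : Epi (kernel.lift (K.d j (j - 1)) (K.d (j + 1) j) (K.d_comp_d _ _ _)) :=
        ShortComplex.Exact.epi_kernelLift ((exactAt_iff_down K j).1 (hK j (by omega)))
      refine dpc_of_ft hsum hqs hql _ (fun i hi => isZero_H_single 0 i (by omega) _) ?_
      exact ft_iso (hSingle 0 _).symm ⟨_, kernel.lift (K.d j (j - 1)) (K.d (j + 1) j)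
        (K.d_comp_d _ _ _), hP (j + 1) (by omega) (by omega), inferInstance⟩
    | succ d ih =>
      intro j hj
      let f : kernel (K.d (j + 1) (j + 1 - 1)) ⟶ K.X (j + 1) := kernel.ι _
      let g : K.X (j + 1) ⟶ kernel (K.d j (j - 1)) := kernel.lift _ (K.d (j + 1) j) (K.d_comp_d _ _ _)
      haveI : Epi g := ShortComplex.Exact.epi_kernelLift ((exactAt_iff_down K j).1 (hK j (by omega)))
      let S : ShortComplex C := ShortComplex.mk f g (by
        rw [← cancel_mono (kernel.ι (K.d j (j - 1)))]
        simp only [f, g, assoc, kernel.lift_ι, zero_comp]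
        exact kernel.condition (K.d (j + 1) (j + 1 - 1)))
      have hS : S.ShortExact :=
        { exact := by
            have h₀ : (ShortComplex.mk (kernel.ι (K.d (j + 1) (j + 1 - 1))) _ (kernel.condition _)).Exact :=
              ShortComplex.exact_of_f_is_kernel _ (kernelIsKernel _)
            let φ : S ⟶ ShortComplex.mk (kernel.ι (K.d (j + 1) (j + 1 - 1))) _ (kernel.condition _) :=
              { τ₁ := 𝟙 _
                τ₂ := 𝟙 _
                τ₃ := kernel.ι (K.d j (j - 1))
                comm₁₂ := by simp [S, f]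
                comm₂₃ := by
                  simp only [id_comp, S, g, kernel.lift_ι]
                  rfl }
            haveI : Epi φ.τ₁ := inferInstanceAs (Epi (𝟙 _))
            haveI : IsIso φ.τ₂ := inferInstanceAs (IsIso (𝟙 _))
            haveI : Mono φ.τ₃ := inferInstanceAs (Mono (kernel.ι _))
            exact (ShortComplex.exact_iff_of_epi_of_isIso_of_mono φ).2 h₀
          mono_f := inferInstanceAs (Mono (kernel.ι _))
          epi_g := inferInstanceAs (Epi g) }
      exact dpc_cone hsum hqs hql _ hS.singleTriangle hS.singleTriangle_distinguished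
        ((ih (j + 1) (by omega)).of_le (by push_cast; omega))
        (dpc_single_of_mem (hP (j + 1) (by omega) (by omega)) 0 _)
  exact (key n 0 (by omega)).of_iso ((DerivedCategory.singleFunctor C 0).mapIso
    (kernelIsoOfEq (K.shape 0 (0 - 1) (by simp)) ≪≫ kernelZeroIsoSource))

theorem res_of_dpc (hsum : ∀ X Y : C, P X → P Y → P (X ⨯ Y))
    (hqs : PCoh.IsQuasiStableUnderKernels P) (hql : PCoh.IsQuasiLiftable P) :
    ∀ (n : ℕ) (F : C), DPC P (-(n : ℤ)) ((DerivedCategory.singleFunctor C 0).obj F) →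
      ∃ K : ChainComplex C ℕ, Nonempty (K.X 0 ≅ F) ∧ (∀ j, j ≤ n → K.ExactAt j) ∧
        (∀ j, n + 1 < j → IsZero (K.X j)) ∧ (∀ j, 1 ≤ j → j ≤ n + 1 → P (K.X j)) := by
  intro n
  induction n with
  | zero =>
    intro F hF
    obtain ⟨X, π, hX, hπ⟩ := ft_of_dpc_single hqs (by simp) hF
    let L : ChainComplex C ℕ := (ChainComplex.single₀ C).obj X
    have hw : L.d 1 0 ≫ π = 0 := by
      rw [show L.d 1 0 = 0 from rfl, zero_comp]
    let K := ChainComplex.augment L π hw
    refine ⟨K, ⟨Iso.refl _⟩, fun j hj => ?_, fun j hj => ?_, fun j hj hj' => ?_⟩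
    · obtain rfl : j = 0 := by omega
      rw [exactAt_iff_down]
      refine (ShortComplex.exact_iff_epi _ (K.shape 0 0 (by simp))).2 ?_
      show Epi π
      exact hπ
    · obtain ⟨i, rfl⟩ : ∃ i, j = i + 1 + 1 := ⟨j - 2, by omega⟩
      exact HomologicalComplex.isZero_single_obj_X (ComplexShape.down ℕ) 0 X (i + 1) (by omega)
    · obtain rfl : j = 1 := by omega
      exact hX
  | succ n ih =>
    intro F hF
    obtain ⟨X, π, hX, hπ⟩ := ft_of_dpc_single hqs (by omega) hF
    let S : ShortComplex C := ShortComplex.mk (kernel.ι π) π (kernel.condition π)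
    have hS : S.ShortExact :=
      { exact := ShortComplex.exact_of_f_is_kernel _ (kernelIsKernel _) }
    have hZ : DPC P (-(n : ℤ)) ((DerivedCategory.singleFunctor C 0).obj (kernel π)) :=
      (dpc_left hsum hqs hql _ hS.singleTriangle hS.singleTriangle_distinguished
        (dpc_single_of_mem hX 0 _) hF).of_le (by push_cast; omega)
    obtain ⟨K', ⟨e⟩, hK', hz', hP'⟩ := ih (kernel π) hZ
    haveI : Epi (K'.d 1 0) :=
      (ShortComplex.exact_iff_epi _ (K'.shape 0 0 (by simp))).1 ((exactAt_iff_down K' 0).1 (hK' 0 (by omega)))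
    let d' : K'.X 1 ⟶ X := K'.d 1 0 ≫ e.hom ≫ kernel.ι π
    have hw₀ : (ChainComplex.truncate.obj K').d 1 0 ≫ d' = 0 := K'.d_comp_d_assoc 2 1 0 _ |>.trans zero_comp
    let L : ChainComplex C ℕ := ChainComplex.augment (ChainComplex.truncate.obj K') d' hw₀
    have hw : L.d 1 0 ≫ π = 0 := by
      show d' ≫ π = 0
      simp [d']
    let K := ChainComplex.augment L π hw
    refine ⟨K, ⟨Iso.refl _⟩, fun j hj => ?_, fun j hj => ?_, fun j hj hj' => ?_⟩
    · rw [exactAt_iff_down]
      rcases j with _ | _ | _ | j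
      · refine (ShortComplex.exact_iff_epi _ (K.shape 0 0 (by simp))).2 ?_
        show Epi π
        exact hπ
      · let φ : ShortComplex.mk d' π (show d' ≫ π = 0 by simp [d']) ⟶ S :=
          { τ₁ := K'.d 1 0 ≫ e.hom
            τ₂ := 𝟙 _
            τ₃ := 𝟙 _
            comm₁₂ := by simp [S, d']
            comm₂₃ := by simp [S] }
        haveI : Epi φ.τ₁ := inferInstanceAs (Epi (K'.d 1 0 ≫ e.hom))
        haveI : IsIso φ.τ₂ := inferInstanceAs (IsIso (𝟙 _))
        haveI : Mono φ.τ₃ := inferInstanceAs (Mono (𝟙 _))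
        exact (ShortComplex.exact_iff_of_epi_of_isIso_of_mono φ).2 hS.exact
      · let φ : K'.sc' 2 1 0 ⟶ ShortComplex.mk (K'.d 2 1) d' hw₀ :=
          { τ₁ := 𝟙 _
            τ₂ := 𝟙 _
            τ₃ := e.hom ≫ kernel.ι π
            comm₁₂ := (id_comp _).trans (comp_id _).symm
            comm₂₃ := id_comp _ }
        haveI : Epi φ.τ₁ := inferInstanceAs (Epi (𝟙 _))
        haveI : IsIso φ.τ₂ := inferInstanceAs (IsIso (𝟙 _))
        haveI : Mono φ.τ₃ := inferInstanceAs (Mono (e.hom ≫ kernel.ι π))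
        exact (ShortComplex.exact_iff_of_epi_of_isIso_of_mono φ).1
          ((exactAt_iff_down K' 1).1 (hK' 1 (by omega)))
      · exact (exactAt_iff_down K' (j + 2)).1 (hK' (j + 2) (by omega))
    · obtain ⟨i, rfl⟩ : ∃ i, j = i + 1 + 1 := ⟨j - 2, by omega⟩
      exact hz' (i + 1) (by omega)
    · rcases j with _ | _ | i
      · omega
      · exact hX
      · exact hP' (i + 1) (by omega) (by omega)

end Groth.Agent.H02CA.PC
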