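import Groth.Agent.H02CA.PC.Top

/-!
# Improving a map degree by degree
-/

set_option autoImplicit false
set_option linter.style.haveILetI false

universe w v u

open CategoryTheory CategoryTheory.Category CategoryTheory.Limits CochainComplex HomologicalComplex

namespace Groth.Agent.H02CA.PC

variable {C : Type u} [Category.{v} C] [Abelian C] [HasDerivedCategory.{w} C] {P : ObjectProperty C}

omit [HasDerivedCategory.{w} C] in
lemma isIso_of_isZero {X Y : C} (hX : IsZero X) (hY : IsZero Y) (f : X ⟶ Y) : IsIso f :=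
  ⟨0, hX.eq_of_src _ _, hY.eq_of_src _ _⟩

lemma dge_Q_single {K : CochainComplex C ℤ} (X : C) (n : ℤ)
    (g : (HomologicalComplex.single C (ComplexShape.up ℤ) n).obj X ⟶ K)
    (he : Epi (HomologicalComplex.homologyMap g n))
    (hK : ∀ i, n < i → IsZero (K.homology i)) : DGe n (DerivedCategory.Q.map g) :=
  (dge_Q_iff' g n).2 ⟨fun i hi =>
    isIso_of_isZero (isZero_homology_of_isZero _ _ (isZero_single_obj_X _ _ _ _ (by omega)))
      (hK i hi) _, he⟩

variable [P.IsClosedUnderIsomorphisms]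

/-- The properties of an enlargement which only changes degrees in `[n, i)`. -/
structure Adm (P : ObjectProperty C) (n i : ℤ) {E E' : CochainComplex C ℤ} (v : E ⟶ E') : Prop where
  mono : ∀ j, Mono (v.f j)
  iso : ∀ j, j < n ∨ i ≤ j → IsIso (v.f j)
  mem : ∀ j, P (E.X j) → P (E'.X j)

lemma Adm.refl (n i : ℤ) (E : CochainComplex C ℤ) : Adm P n i (𝟙 E) :=
  ⟨fun j => by rw [HomologicalComplex.id_f]; infer_instance,
    fun j _ => by rw [HomologicalComplex.id_f]; infer_instance, fun _ h => h⟩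

lemma Adm.trans {n i : ℤ} {E E' E'' : CochainComplex C ℤ} {v : E ⟶ E'} {v' : E' ⟶ E''}
    (h : Adm P n i v) (h' : Adm P n i v') : Adm P n i (v ≫ v') :=
  ⟨fun j => by rw [HomologicalComplex.comp_f]; haveI := h.mono j; haveI := h'.mono j; infer_instance,
    fun j hj => by rw [HomologicalComplex.comp_f]; haveI := h.iso j hj; haveI := h'.iso j hj; infer_instance,
    fun j hj => h'.mem j (h.mem j hj)⟩

lemma Adm.mono' {n i n' i' : ℤ} (hn : n' ≤ n) (hi : i ≤ i') {E E' : CochainComplex C ℤ}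
    {v : E ⟶ E'} (h : Adm P n i v) : Adm P n' i' v :=
  ⟨h.mono, fun j hj => h.iso j (by omega), h.mem⟩

/-- The enlargement in one degree. -/
theorem step (hql : PCoh.IsQuasiLiftable P) (hsum : ∀ X Y : C, P X → P Y → P (X ⨯ Y)) (n : ℤ)
    {E F : CochainComplex C ℤ} (u : E ⟶ F) (hu : DGe (n + 1) (DerivedCategory.Q.map u))
    (hft : PCoh.IsOfFiniteType P ((CochainComplex.mappingCone u).homology n)) :
    ∃ (E' : CochainComplex C ℤ) (v : E ⟶ E') (u' : E' ⟶ F), v ≫ u' = u ∧
      Adm P n (n + 1) v ∧ P (cokernel (v.f n)) ∧ DGe n (DerivedCategory.Q.map u') := by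
  obtain ⟨X, g, hX, hg⟩ := exists_single_epi hql n _ hft
  refine ⟨att g, attV g, attU g, attV_attU g, ⟨fun j => inferInstance, fun j hj =>
    isIso_attV_f g j (isZero_single_obj_X _ _ _ _ (by omega)), fun j hj => ?_⟩, ?_,
    dge_attU g (dge_Q_single X n g hg fun i hi => (dge_Q_iff u (n + 1)).1 hu i (by omega))⟩
  · by_cases h : j = n
    · subst h
      exact mem_biprod hsum hj (P.prop_of_iso (singleObjXSelf _ j X).symm hX)
    · exact mem_biprod_left hj (isZero_single_obj_X _ _ _ _ h)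
  · exact P.prop_of_iso ((attCokerIso g n).trans (singleObjXSelf (ComplexShape.up ℤ) n X)).symm hX

/-- Repeated enlargements. -/
theorem stages (hql : PCoh.IsQuasiLiftable P) (hsum : ∀ X Y : C, P X → P Y → P (X ⨯ Y)) :
    ∀ (k : ℕ) (n i : ℤ), n + k = i → ∀ {E F : CochainComplex C ℤ} (u : E ⟶ F),
    DGe i (DerivedCategory.Q.map u) →
    (∀ (m : ℤ), n ≤ m → m < i → ∀ (E' : CochainComplex C ℤ) (v : E ⟶ E') (u' : E' ⟶ F),
      v ≫ u' = u → Adm P (m + 1) i v → DGe (m + 1) (DerivedCategory.Q.map u') →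
      PCoh.IsOfFiniteType P ((CochainComplex.mappingCone u').homology m)) →
    ∃ (E' : CochainComplex C ℤ) (v : E ⟶ E') (u' : E' ⟶ F), v ≫ u' = u ∧
      Adm P n i v ∧ DGe n (DerivedCategory.Q.map u') := by
  intro k
  induction k with
  | zero =>
    intro n i h E F u hu _
    obtain rfl : n = i := by omega
    exact ⟨E, 𝟙 E, u, id_comp u, Adm.refl _ _ _, hu⟩
  | succ k ih =>
    intro n i h E F u hu hft
    obtain ⟨E₁, v₁, u₁, h₁, hv₁, hu₁⟩ := ih (n + 1) i (by omega) u hu
      (fun m hm hm' => hft m (by omega) hm')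
    obtain ⟨E₂, v₂, u₂, h₂, hv₂, -, hu₂⟩ := step hql hsum n u₁ hu₁
      (hft n le_rfl (by omega) E₁ v₁ u₁ h₁ hv₁ hu₁)
    exact ⟨E₂, v₁ ≫ v₂, u₂, by rw [assoc, h₂, h₁],
      (hv₁.mono' (by omega) le_rfl).trans (hv₂.mono' le_rfl (by omega)), hu₂⟩

omit [P.IsClosedUnderIsomorphisms] in
/-- Completion to a quasi-isomorphism below a degree. -/
theorem trunc (n : ℤ) {E F : CochainComplex C ℤ} (u : E ⟶ F)
    (hu : DGe n (DerivedCategory.Q.map u)) :
    ∃ (E' : CochainComplex C ℤ) (v : E ⟶ E') (u' : E' ⟶ F), v ≫ u' = u ∧ QuasiIso u' ∧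
      (∀ j, Mono (v.f j)) ∧ (∀ j, n ≤ j → IsIso (v.f j)) := by
  let K : CochainComplex C ℤ := CochainComplex.mappingCone u
  haveI : QuasiIso (K.ιTruncLE (n - 1)) := by
    rw [quasiIso_iff]
    intro j
    by_cases h : j ≤ n - 1
    · exact CochainComplex.quasiIsoAt_ιTruncLE K _ _ h
    · rw [quasiIsoAt_iff_isIso_homologyMap]
      exact isIso_of_isZero
        (isZero_homology_of_isZero _ _ ((K.truncLE (n - 1)).isZero_of_isStrictlyLE (n - 1) j (by omega)))
        ((dge_Q_iff u n).1 hu j (by omega)) _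
  refine ⟨att (K.ιTruncLE (n - 1)), attV _, attU _, attV_attU _,
    quasiIso_of_dge _ (fun m => dge_attU (K.ιTruncLE (n - 1)) ?_), fun j => inferInstance,
    fun j hj => isIso_attV_f _ j ((K.truncLE (n - 1)).isZero_of_isStrictlyLE (n - 1) j (by omega))⟩
  haveI : IsIso (DerivedCategory.Q.map (K.ιTruncLE (n - 1))) := inferInstance
  exact DGe.of_isIso m _

end Groth.Agent.H02CA.PC
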