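import Groth.Agent.H02CA.PC.Attach
import Groth.Agent.H02CA.PC.Ft
import Mathlib.Algebra.Homology.Augment
import Mathlib.Algebra.Homology.SingleHomology
import Mathlib.Algebra.Homology.Embedding.CochainComplex

/-!
# Top cohomology, and the elementary enlargements
-/

set_option autoImplicit false
set_option linter.style.haveILetI false

universe w v u

open CategoryTheory CategoryTheory.Category CategoryTheory.Limits CochainComplex HomologicalComplex

namespace Groth.Agent.H02CA.PC

variable {C : Type u} [Category.{v} C] [Abelian C] {P : ObjectProperty C}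

/-- The part of a complex in degrees `≥ n`, indexed by natural numbers. -/
noncomputable def upper (E : CochainComplex C ℤ) (n : ℤ) : CochainComplex C ℕ :=
  CochainComplex.of (fun j => E.X (n + j)) (fun j => E.d (n + j) (n + (j + 1 : ℕ)))
    (fun _ => E.d_comp_d _ _ _)

lemma upper_d (E : CochainComplex C ℤ) (n : ℤ) (j : ℕ) :
    (upper E n).d j (j + 1) = E.d (n + j) (n + (j + 1 : ℕ)) := by
  exact CochainComplex.of_d (fun j : ℕ => E.X (n + j)) (fun j : ℕ => E.d (n + j) (n + (j + 1 : ℕ))) j

/-- The cycles followed by the upper part. -/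
noncomputable def kerSeq (E : CochainComplex C ℤ) (n : ℤ) : CochainComplex C ℕ :=
  CochainComplex.augment (upper E n) (kernel.ι (E.d (n + (0 : ℕ)) (n + (0 + 1 : ℕ))))
    (by rw [upper_d]; exact kernel.condition _)

lemma kerSeq_d_zero (E : CochainComplex C ℤ) (n : ℤ) :
    (kerSeq E n).d 0 1 = kernel.ι (E.d (n + (0 : ℕ)) (n + (0 + 1 : ℕ))) := rfl

lemma kerSeq_d_succ (E : CochainComplex C ℤ) (n : ℤ) (j : ℕ) :
    (kerSeq E n).d (j + 1) (j + 1 + 1) = E.d (n + j) (n + (j + 1 : ℕ)) := upper_d E n j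

lemma kerSeq_exactAt (E : CochainComplex C ℤ) (n : ℤ) (hac : ∀ i, n < i → IsZero (E.homology i))
    (i : ℕ) : (kerSeq E n).ExactAt i := by
  rcases i with _ | _ | j
  · rw [HomologicalComplex.exactAt_iff' _ 0 0 1 (by simp) (by simp)]
    refine (ShortComplex.exact_iff_mono _ ((kerSeq E n).shape 0 0 (by simp))).2 ?_
    show Mono ((kerSeq E n).d 0 1)
    rw [kerSeq_d_zero]
    exact inferInstanceAs (Mono (kernel.ι _))
  · rw [HomologicalComplex.exactAt_iff' _ 0 1 2 (by simp) (by simp)]
    have h : (ShortComplex.mk (kernel.ι (E.d (n + (0 : ℕ)) (n + (0 + 1 : ℕ)))) _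
        (kernel.condition _)).Exact :=
      ShortComplex.exact_of_f_is_kernel _ (kernelIsKernel _)
    refine ShortComplex.exact_of_iso ?_ h
    refine ShortComplex.isoMk (Iso.refl _) (Iso.refl _) (Iso.refl _) ?_ ?_
    · exact (id_comp _).trans ((kerSeq_d_zero E n).trans (comp_id _).symm)
    · exact (id_comp _).trans ((kerSeq_d_succ E n 0).trans (comp_id _).symm)
  · rw [HomologicalComplex.exactAt_iff' _ (j + 1) (j + 2) (j + 3) (by simp) (by simp)]
    have h : (E.sc' (n + j) (n + (j + 1 : ℕ)) (n + (j + 1 + 1 : ℕ))).Exact := by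
      rw [← HomologicalComplex.exactAt_iff' _ _ _ _ (by simp; omega) (by simp; omega),
        HomologicalComplex.exactAt_iff_isZero_homology]
      exact hac _ (by omega)
    refine ShortComplex.exact_of_iso ?_ h
    refine ShortComplex.isoMk (Iso.refl _) (Iso.refl _) (Iso.refl _) ?_ ?_
    · exact (id_comp _).trans ((kerSeq_d_succ E n j).trans (comp_id _).symm)
    · exact (id_comp _).trans ((kerSeq_d_succ E n (j + 1)).trans (comp_id _).symm)

lemma ft_cycles [P.IsClosedUnderIsomorphisms] (hqs : PCoh.IsQuasiStableUnderKernels P) (n : ℤ)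
    (E : CochainComplex C ℤ) (hE : PCoh.IsStrictPC P n E)
    (hac : ∀ i, n < i → IsZero (E.homology i)) : PCoh.IsOfFiniteType P (E.cycles n) := by
  obtain ⟨⟨b, hb⟩, hP⟩ := hE
  have h := hqs (kerSeq E n) (kerSeq_exactAt E n hac) ⟨(b - n).toNat + 1, fun i hi => ?_⟩ fun i hi => ?_
  · refine ft_iso (IsLimit.conePointUniqueUpToIso (kernelIsKernel _)
      (E.cyclesIsKernel n (n + 1) (by simp)) ≪≫ Iso.refl _) (ft_iso ?_ h)
    exact kernel.mapIso _ _ (E.XIsoOfEq (by simp)) (E.XIsoOfEq (by simp)) (by simp)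
  · obtain ⟨j, rfl⟩ : ∃ j, i = j + 1 := ⟨i - 1, by omega⟩
    exact hb (n + j) (by omega)
  · obtain ⟨j, rfl⟩ : ∃ j, i = j + 1 := ⟨i - 1, by omega⟩
    exact hP (n + j) (by omega)

/-- The top cohomology of a strictly pseudo-coherent complex is of finite type. -/
theorem ft_homology_top [P.IsClosedUnderIsomorphisms] (hqs : PCoh.IsQuasiStableUnderKernels P)
    (n : ℤ) (E : CochainComplex C ℤ) (hE : PCoh.IsStrictPC P n E)
    (hac : ∀ i, n < i → IsZero (E.homology i)) : PCoh.IsOfFiniteType P (E.homology n) :=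
  ft_of_epi (E.homologyπ n) (ft_cycles hqs n E hE hac)

/-- A map onto the cohomology in degree `n` from an object placed in degree `n`. -/
lemma exists_single_epi (hql : PCoh.IsQuasiLiftable P) (n : ℤ) (K : CochainComplex C ℤ)
    (h : PCoh.IsOfFiniteType P (K.homology n)) :
    ∃ (X : C) (g : (HomologicalComplex.single C (ComplexShape.up ℤ) n).obj X ⟶ K), P X ∧
      Epi (HomologicalComplex.homologyMap g n) := by
  obtain ⟨E₀, π, hE₀, hπ⟩ := h
  obtain ⟨X, ρ, l, hX, hρ, hl⟩ := exists_lift hql (K.homologyπ n) π hE₀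
  refine ⟨X, HomologicalComplex.mkHomFromSingle (l ≫ K.iCycles n) (fun k hk => by simp), hX, ?_⟩
  have h₁ : (singleObjCyclesSelfIso (ComplexShape.up ℤ) n X).inv ≫
      cyclesMap (HomologicalComplex.mkHomFromSingle (l ≫ K.iCycles n) (fun k hk => by simp)) n = l := by
    rw [← cancel_mono (K.iCycles n)]
    simp
  have h₂ : Epi ((singleObjCyclesSelfIso (ComplexShape.up ℤ) n X).inv ≫
      ((HomologicalComplex.single C (ComplexShape.up ℤ) n).obj X).homologyπ n ≫
      HomologicalComplex.homologyMap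
        (HomologicalComplex.mkHomFromSingle (l ≫ K.iCycles n) (fun k hk => by simp)) n) := by
    rw [homologyπ_naturality, reassoc_of% h₁, ← hl]
    exact epi_comp _ _
  rw [← assoc] at h₂
  haveI := h₂
  exact epi_of_epi ((singleObjCyclesSelfIso (ComplexShape.up ℤ) n X).inv ≫
    ((HomologicalComplex.single C (ComplexShape.up ℤ) n).obj X).homologyπ n) _

end Groth.Agent.H02CA.PC
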