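import Groth.Agent.H02CA.PC.Gen
import Mathlib.CategoryTheory.Functor.OfSequence

/-!
# Resolutions by unbounded below complexes
-/

set_option autoImplicit false
set_option linter.style.haveILetI false

universe w v u

open CategoryTheory CategoryTheory.Category CategoryTheory.Limits CochainComplex HomologicalComplex Pretriangulated

namespace Groth.Agent.H02CA.PC

variable {C : Type u} [Category.{v} C] [Abelian C]

/-- A sequence of maps of complexes over `F` which is stationary in each degree. -/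
structure Tower (F : CochainComplex C ℤ) (n : ℤ) where
  G : ℕ ⥤ CochainComplex C ℤ
  u : ∀ k, G.obj k ⟶ F
  fac : ∀ (k l : ℕ) (h : k ≤ l), G.map (homOfLE h) ≫ u l = u k
  mono : ∀ (k l : ℕ) (h : k ≤ l) (j : ℤ), Mono ((G.map (homOfLE h)).f j)
  stab : ∀ (k l : ℕ) (h : k ≤ l) (j : ℤ), n - k ≤ j → IsIso ((G.map (homOfLE h)).f j)

namespace Tower

variable {F : CochainComplex C ℤ} {n : ℤ} (T : Tower F n)

/-- The stage from which degree `j` is constant. -/
def K (n j : ℤ) : ℕ := (n - j).toNat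

/-- The transition map in degree `j`. -/
noncomputable def t (k l : ℕ) (h : k ≤ l) (j : ℤ) : (T.G.obj k).X j ⟶ (T.G.obj l).X j :=
  (T.G.map (homOfLE h)).f j

lemma t_comp (k l m : ℕ) (h : k ≤ l) (h' : l ≤ m) (j : ℤ) :
    T.t k l h j ≫ T.t l m h' j = T.t k m (h.trans h') j := by
  rw [t, t, t, ← HomologicalComplex.comp_f, ← Functor.map_comp, homOfLE_comp]

lemma t_refl (k : ℕ) (j : ℤ) : T.t k k le_rfl j = 𝟙 _ := by
  rw [t, show homOfLE (le_refl k) = 𝟙 k from rfl, CategoryTheory.Functor.map_id]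
  rfl

lemma isIso_t (k l : ℕ) (h : k ≤ l) (j : ℤ) (hk : K n j ≤ k) : IsIso (T.t k l h j) :=
  T.stab k l h j (by unfold K at hk; omega)

lemma t_d (k l : ℕ) (h : k ≤ l) (i j : ℤ) :
    T.t k l h i ≫ (T.G.obj l).d i j = (T.G.obj k).d i j ≫ T.t k l h j :=
  (T.G.map (homOfLE h)).comm i j

lemma t_u (k l : ℕ) (h : k ≤ l) (j : ℤ) : T.t k l h j ≫ (T.u l).f j = (T.u k).f j := by
  rw [t, ← HomologicalComplex.comp_f, T.fac]

/-- The identification of the stable value. -/
noncomputable def tIso (k l : ℕ) (h : k ≤ l) (j : ℤ) (hk : K n j ≤ k) :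
    (T.G.obj k).X j ≅ (T.G.obj l).X j :=
  haveI := T.isIso_t k l h j hk
  asIso (T.t k l h j)

lemma tIso_hom (k l : ℕ) (h : k ≤ l) (j : ℤ) (hk : K n j ≤ k) :
    (T.tIso k l h j hk).hom = T.t k l h j := rfl

/-- The differential of the stable values. -/
noncomputable def dlim (j : ℤ) :
    (T.G.obj (K n j)).X j ⟶ (T.G.obj (K n (j + 1))).X (j + 1) :=
  (T.G.obj (K n j)).d j (j + 1) ≫
    (T.tIso (K n (j + 1)) (K n j) (by unfold K; omega) (j + 1) le_rfl).inv

lemma dlim_t (j : ℤ) (k : ℕ) (h : K n j ≤ k) :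
    T.dlim j ≫ T.t (K n (j + 1)) k (le_trans (by unfold K; omega) h) (j + 1) =
      T.t (K n j) k h j ≫ (T.G.obj k).d j (j + 1) := by
  rw [T.t_d, dlim, assoc]
  congr 1
  rw [Iso.inv_comp_eq, tIso_hom, t_comp]

/-- The union. -/
noncomputable def lim : CochainComplex C ℤ :=
  CochainComplex.of (fun j => (T.G.obj (K n j)).X j) T.dlim (fun j => by
    haveI := T.isIso_t (K n (j + 1 + 1)) (K n j) (by unfold K; omega) (j + 1 + 1) le_rfl
    rw [← cancel_mono (T.t (K n (j + 1 + 1)) (K n j) (by unfold K; omega) (j + 1 + 1)), assoc,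
      T.dlim_t (j + 1) (K n j) (by unfold K; omega), ← assoc, T.dlim_t j (K n j) le_rfl,
      assoc, HomologicalComplex.d_comp_d, comp_zero, zero_comp])

lemma lim_d (j : ℤ) : T.lim.d j (j + 1) = T.dlim j :=
  CochainComplex.of_d (fun j => (T.G.obj (K n j)).X j) T.dlim j

/-- The map from a stage to the union, in degree `j`. -/
noncomputable def cf (k : ℕ) (j : ℤ) : (T.G.obj k).X j ⟶ (T.G.obj (K n j)).X j :=
  T.t k (max k (K n j)) (le_max_left _ _) j ≫
    (T.tIso (K n j) (max k (K n j)) (le_max_right _ _) j le_rfl).inv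

lemma cf_t (k : ℕ) (j : ℤ) (l : ℕ) (hk : k ≤ l) (hj : K n j ≤ l) :
    T.cf k j ≫ T.t (K n j) l hj j = T.t k l hk j := by
  rw [← T.t_comp (K n j) (max k (K n j)) l (le_max_right _ _) (max_le hk hj), cf, assoc,
    ← tIso_hom T (K n j) (max k (K n j)) (le_max_right _ _) j le_rfl, Iso.inv_hom_id_assoc, t_comp]

/-- The map from a stage to the union. -/
noncomputable def c (k : ℕ) : T.G.obj k ⟶ T.lim where
  f j := T.cf k j
  comm' i j hij := by
    obtain rfl : i + 1 = j := hij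
    rw [lim_d]
    change T.cf k i ≫ T.dlim i = (T.G.obj k).d i (i + 1) ≫ T.cf k (i + 1)
    haveI := T.isIso_t (K n (i + 1)) (max k (K n i))
      (le_trans (by unfold K; omega) (le_max_right _ _)) (i + 1) le_rfl
    rw [← cancel_mono (T.t (K n (i + 1)) (max k (K n i))
      (le_trans (by unfold K; omega) (le_max_right _ _)) (i + 1)), assoc, assoc,
      T.dlim_t i _ (le_max_right _ _),
      T.cf_t k (i + 1) _ (le_max_left _ _), ← assoc,
      T.cf_t k i _ (le_max_left _ _), T.t_d]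

lemma isIso_cf (k : ℕ) (j : ℤ) (h : K n j ≤ k) : IsIso (T.cf k j) := by
  haveI := T.isIso_t k (max k (K n j)) (le_max_left _ _) j h
  rw [cf]
  infer_instance

lemma mono_cf (k : ℕ) (j : ℤ) : Mono (T.cf k j) := by
  haveI : Mono (T.t k (max k (K n j)) (le_max_left _ _) j) := T.mono _ _ _ _
  rw [cf]
  infer_instance

/-- The map from the union. -/
noncomputable def ulim : T.lim ⟶ F where
  f j := (T.u (K n j)).f j
  comm' i j hij := by
    obtain rfl : i + 1 = j := hij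
    rw [lim_d]
    change (T.u (K n i)).f i ≫ F.d i (i + 1) = T.dlim i ≫ (T.u (K n (i + 1))).f (i + 1)
    rw [← T.t_u (K n (i + 1)) (K n i) (by unfold K; omega), ← assoc, T.dlim_t i _ le_rfl, T.t_refl,
      id_comp]
    exact (T.u (K n i)).comm i (i + 1)

@[reassoc]
lemma c_ulim (k : ℕ) : T.c k ≫ T.ulim = T.u k := by
  ext j
  change T.cf k j ≫ (T.u (K n j)).f j = (T.u k).f j
  rw [← T.t_u (K n j) (max k (K n j)) (le_max_right _ _), ← assoc,
    T.cf_t k j _ (le_max_left _ _), t_u]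

lemma quasiIso_ulim
    (h : ∀ (k : ℕ) (i : ℤ), n - k < i → IsIso (HomologicalComplex.homologyMap (T.u k) i)) :
    QuasiIso T.ulim := by
  rw [quasiIso_iff]
  intro i
  rw [quasiIsoAt_iff_isIso_homologyMap]
  let k := K n (i - 1)
  have hc : ∀ l, i - 1 ≤ l → IsIso ((T.c k).f l) := fun l hl => T.isIso_cf k l (by simp [k, K]; omega)
  haveI : QuasiIsoAt (T.c k) i := by
    rw [quasiIsoAt_iff' (T.c k) (i - 1) i (i + 1) (by simp) (by simp)]
    let φ := (HomologicalComplex.shortComplexFunctor' C (ComplexShape.up ℤ) (i - 1) i (i + 1)).map (T.c k)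
    haveI : IsIso φ.τ₁ := hc _ le_rfl
    haveI : IsIso φ.τ₂ := hc _ (by omega)
    haveI : IsIso φ.τ₃ := hc _ (by omega)
    exact ShortComplex.quasiIso_of_epi_of_isIso_of_mono φ
  haveI := h k i (by simp [k, K]; omega)
  have hk : IsIso (HomologicalComplex.homologyMap (T.c k) i) :=
    (quasiIsoAt_iff_isIso_homologyMap _ _).1 inferInstance
  haveI : IsIso (HomologicalComplex.homologyMap (T.c k) i ≫ HomologicalComplex.homologyMap T.ulim i) := by
    rw [← HomologicalComplex.homologyMap_comp, c_ulim]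
    infer_instance
  exact IsIso.of_isIso_comp_left (HomologicalComplex.homologyMap (T.c k) i) _

end Tower

variable [HasDerivedCategory.{w} C] {P : ObjectProperty C} [P.IsClosedUnderIsomorphisms] [P.ContainsZero]

/-- A stage of the construction. -/
structure Stg (P : ObjectProperty C) (E F : CochainComplex C ℤ) (n : ℤ) (k : ℕ) where
  obj : CochainComplex C ℤ
  hom : obj ⟶ F
  incl : E ⟶ obj
  mem : ∀ j, P (obj.X j)
  iso : ∀ j, n ≤ j → IsIso (incl.f j)
  dge : DGe (n - k) (DerivedCategory.Q.map hom)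

lemma exists_next (hsum : ∀ X Y : C, P X → P Y → P (X ⨯ Y))
    (hqs : PCoh.IsQuasiStableUnderKernels P) (hql : PCoh.IsQuasiLiftable P)
    {E F : CochainComplex C ℤ} {n : ℤ} (hb : ∃ b, ∀ j, b < j → IsZero (E.X j))
    (hF : PCoh.IsPC P (DerivedCategory.Q.obj F)) {k : ℕ} (s : Stg P E F n k) :
    ∃ (s' : Stg P E F n (k + 1)) (v : s.obj ⟶ s'.obj),
      v ≫ s'.hom = s.hom ∧ (∀ j, Mono (v.f j)) ∧ (∀ j, n - k ≤ j → IsIso (v.f j)) := by
  obtain ⟨b, hb⟩ := hb
  let m : ℤ := n - (k + 1 : ℕ)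
  have hm : n - (k : ℤ) = m + 1 := by simp [m]; omega
  have hs : DGe (m + 1) (DerivedCategory.Q.map s.hom) := by
    rw [← hm]
    exact s.dge
  have hE : PCoh.IsStrictPC P (m + 1) s.obj :=
    ⟨⟨max b n, fun j hj => by
      haveI := s.iso j (by omega)
      exact (asIso (s.incl.f j)).isZero_iff.1 (hb j (by omega))⟩, fun j _ => s.mem j⟩
  obtain ⟨E', v, u', h, hv, -, hu⟩ := step hql hsum m s.hom hs (ft_cone_of_dpc hqs _ hs
    (dpc_cone hsum hqs hql m _ (DerivedCategory.mappingCone_triangle_distinguished s.hom)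
      ⟨_, hE, ⟨Iso.refl _⟩⟩ (hF m)))
  refine ⟨⟨E', u', s.incl ≫ v, fun j => hv.mem j (s.mem j), fun j hj => ?_, hu⟩, v, h, hv.mono,
    fun j hj => hv.iso j (Or.inr (by omega))⟩
  rw [HomologicalComplex.comp_f]
  haveI := s.iso j hj
  haveI := hv.iso j (Or.inr (by omega))
  infer_instance

/-- Completion to a quasi-isomorphism by a strictly pseudo-coherent complex. -/
theorem completeAll (hsum : ∀ X Y : C, P X → P Y → P (X ⨯ Y))
    (hqs : PCoh.IsQuasiStableUnderKernels P) (hql : PCoh.IsQuasiLiftable P) (n : ℤ)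
    {E F : CochainComplex C ℤ} (hE : PCoh.IsStrictPCAll P E)
    (hF : PCoh.IsPC P (DerivedCategory.Q.obj F)) (u : E ⟶ F) (hu : DGe n (DerivedCategory.Q.map u)) :
    ∃ (E' : CochainComplex C ℤ) (v : E ⟶ E') (u' : E' ⟶ F), v ≫ u' = u ∧ PCoh.IsStrictPCAll P E' ∧
      QuasiIso u' ∧ (∀ j, Mono (v.f j)) ∧ (∀ j, n ≤ j → IsIso (v.f j)) := by
  choose next vnext hnext using
    fun k (s : Stg P E F n k) => exists_next hsum hqs hql hE.1 hF (k := k) s
  let s₀ : Stg P E F n 0 := ⟨E, u, 𝟙 E, hE.2,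
    fun j _ => by rw [HomologicalComplex.id_f]; infer_instance,
    by simpa using hu⟩
  let S : ∀ k, Stg P E F n k := fun k => Nat.rec s₀ next k
  let G : ℕ ⥤ CochainComplex C ℤ :=
    Functor.ofSequence (X := fun k => (S k).obj) (fun k => vnext k (S k))
  have hsucc : ∀ k, G.map (homOfLE (Nat.le_add_right k 1)) = vnext k (S k) :=
    fun k => Functor.ofSequence_map_homOfLE_succ (X := fun k => (S k).obj) _ k
  have hmap : ∀ (k l : ℕ) (h : k ≤ l), G.map (homOfLE h) ≫ (S l).hom = (S k).hom ∧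
      ∀ j, Mono ((G.map (homOfLE h)).f j) ∧ (n - k ≤ j → IsIso ((G.map (homOfLE h)).f j)) := by
    intro k l h
    induction l, h using Nat.le_induction with
    | base =>
      rw [show homOfLE (le_refl k) = 𝟙 k from rfl, CategoryTheory.Functor.map_id]
      refine ⟨id_comp _, fun j => ?_⟩
      erw [HomologicalComplex.id_f]
      exact ⟨inferInstance, fun _ => inferInstance⟩
    | succ l hl ih =>
      obtain ⟨h₁, h₂⟩ := ih
      obtain ⟨hn₁, hn₂, hn₃⟩ := hnext l (S l)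
      rw [← homOfLE_comp hl (Nat.le_add_right l 1), Functor.map_comp, hsucc]
      refine ⟨?_, fun j => ?_⟩
      · rw [assoc]
        exact (congrArg _ hn₁).trans h₁
      · rw [HomologicalComplex.comp_f]
        obtain ⟨h₂, h₂'⟩ := h₂ j
        exact ⟨@mono_comp _ _ _ _ _ _ h₂ _ (hn₂ j),
          fun hj => @IsIso.comp_isIso _ _ _ _ _ _ _ (h₂' hj) (hn₃ j (by omega))⟩
  let T : Tower F n := ⟨G, fun k => (S k).hom, fun k l h => (hmap k l h).1,
    fun k l h j => ((hmap k l h).2 j).1, fun k l h j => ((hmap k l h).2 j).2⟩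
  refine ⟨T.lim, T.c 0, T.ulim, T.c_ulim 0, ⟨?_, fun j => (S (Tower.K n j)).mem j⟩,
    T.quasiIso_ulim fun k i hi => ((dge_Q_iff' _ _).1 (S k).dge).1 i hi,
    fun j => T.mono_cf 0 j, fun j hj => T.isIso_cf 0 j (by unfold Tower.K; omega)⟩
  obtain ⟨b, hb⟩ := hE.1
  refine ⟨max b n, fun j hj => ?_⟩
  haveI : IsIso ((T.c 0).f j) := T.isIso_cf 0 j (by unfold Tower.K; omega)
  exact (asIso ((T.c 0).f j)).isZero_iff.1 (hb j (by omega))

/-- Resolutions. -/
theorem resolveAll (hsum : ∀ X Y : C, P X → P Y → P (X ⨯ Y))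
    (hqs : PCoh.IsQuasiStableUnderKernels P) (hql : PCoh.IsQuasiLiftable P) (m : ℤ)
    {F : CochainComplex C ℤ} (hF : PCoh.IsPC P (DerivedCategory.Q.obj F))
    (hac : ∀ i, m ≤ i → IsZero (F.homology i)) :
    ∃ (E : CochainComplex C ℤ) (s : E ⟶ F), PCoh.IsStrictPCAll P E ∧ QuasiIso s ∧
      ∀ i, m ≤ i → IsZero (E.X i) := by
  obtain ⟨E, v, u', -, hE, hu, -, hv⟩ := completeAll hsum hqs hql m (E := Z0 C) (F := F)
    ⟨⟨0, fun i _ => isZero_zero_X i⟩, zero_mem⟩ hF 0 (dge_zero _ _ (fun i _ => isZero_homology_Z0 i) hac)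
  refine ⟨E, u', hE, hu, fun i hi => ?_⟩
  haveI := hv i hi
  exact (asIso (v.f i)).isZero_iff.1 (isZero_zero_X i)

lemma isPC_of_strictAll {E : CochainComplex C ℤ} (hE : PCoh.IsStrictPCAll P E)
    {X : DerivedCategory C} (e : DerivedCategory.Q.obj E ≅ X) : PCoh.IsPC P X := fun _ =>
  ⟨E, ⟨hE.1, fun i _ => hE.2 i⟩, ⟨e⟩⟩

/-- A strictly pseudo-coherent complex dominating a quasi-isomorphism. -/
theorem resolveQis (hsum : ∀ X Y : C, P X → P Y → P (X ⨯ Y))
    (hqs : PCoh.IsQuasiStableUnderKernels P) (hql : PCoh.IsQuasiLiftable P)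
    {E₀ E : CochainComplex C ℤ} (hE : PCoh.IsStrictPCAll P E) (s : E₀ ⟶ E)
    (hs : IsIso (DerivedCategory.Q.map s)) :
    ∃ (E' : CochainComplex C ℤ) (t : E' ⟶ E₀), PCoh.IsStrictPCAll P E' ∧ QuasiIso t := by
  obtain ⟨b, hb⟩ := hE.1
  haveI := hs
  obtain ⟨E', t, hE', ht, -⟩ := resolveAll hsum hqs hql (b + 1)
    (isPC_of_strictAll hE (asIso (DerivedCategory.Q.map s)).symm) fun i hi =>
      isZero_homology_rep (asIso (DerivedCategory.Q.map s)) i
        ((isZero_H_iff E i).2 (isZero_homology_of_isZero _ _ (hb i (by omega))))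
  exact ⟨E', t, hE', ht⟩

end Groth.Agent.H02CA.PC
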